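import Mathlib

/-!
# Elements outside a normal subgroup fixing exactly one point: counting lemmas
-/

set_option autoImplicit false

namespace H25.Derange

open MulAction

variable {G Ω : Type*} [Group G] [MulAction G Ω]

/-- `M` meets every coset of `D`. -/
def Covers (D M : Subgroup G) : Prop := ∀ g : G, ∃ m ∈ M, g⁻¹ * m ∈ D

/-- every element outside `D` fixes at most one point -/
def Uniq (D : Subgroup G) (Ω : Type*) [MulAction G Ω] : Prop :=
  ∀ g : G, g ∉ D → ∀ x y : Ω, g • x = x → g • y = y → x = y

theorem Covers.mono {D M M' : Subgroup G} (h : Covers D M) (hle : M ≤ M') : Covers D M' :=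
  fun g => (h g).imp fun _ hm => ⟨hle hm.1, hm.2⟩

theorem Covers.relIndex_eq {D M : Subgroup G} (h : Covers D M) : D.relIndex M = D.index := by
  refine Nat.card_congr (Equiv.ofBijective
    (Quotient.lift (fun m : M => (QuotientGroup.mk (m : G) : G ⧸ D))
      (fun a b hab => QuotientGroup.eq.mpr (by
        have := QuotientGroup.leftRel_apply.mp hab
        simpa [Subgroup.mem_subgroupOf] using this))) ⟨?_, ?_⟩)
  · rintro ⟨a⟩ ⟨b⟩ hab
    apply Quotient.sound
    have : (a : G)⁻¹ * b ∈ D := QuotientGroup.eq.mp hab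
    exact QuotientGroup.leftRel_apply.mpr (by simpa [Subgroup.mem_subgroupOf] using this)
  · rintro ⟨g⟩
    obtain ⟨m, hm, hgm⟩ := h g
    exact ⟨QuotientGroup.mk ⟨m, hm⟩, (QuotientGroup.eq.mpr hgm).symm⟩

theorem covers_of_relIndex_eq [Finite G] {D M : Subgroup G} (h : D.relIndex M = D.index) :
    Covers D M := by
  let f : M ⧸ D.subgroupOf M → G ⧸ D :=
    Quotient.lift (fun m : M => (QuotientGroup.mk (m : G) : G ⧸ D))
      (fun a b hab => QuotientGroup.eq.mpr (by
        have := QuotientGroup.leftRel_apply.mp hab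
        simpa [Subgroup.mem_subgroupOf] using this))
  have hinj : Function.Injective f := by
    rintro ⟨a⟩ ⟨b⟩ hab
    apply Quotient.sound
    have : (a : G)⁻¹ * b ∈ D := QuotientGroup.eq.mp hab
    exact QuotientGroup.leftRel_apply.mpr (by simpa [Subgroup.mem_subgroupOf] using this)
  have hbij := (Nat.bijective_iff_injective_and_card f).2 ⟨hinj, h⟩
  intro g
  obtain ⟨q, hq⟩ := hbij.2 (QuotientGroup.mk g)
  induction q using Quotient.inductionOn with
  | h m => exact ⟨m, m.2, QuotientGroup.eq.mp hq.symm⟩

theorem Covers.card_eq [Finite G] {D M : Subgroup G} (h : Covers D M) :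
    Nat.card M = D.index * Nat.card (M ⊓ D : Subgroup G) := by
  have h1 := (D.subgroupOf M).card_mul_index
  have h2 : Nat.card (D.subgroupOf M) = Nat.card (M ⊓ D : Subgroup G) := by
    rw [← Subgroup.inf_subgroupOf_right D M, inf_comm,
      Nat.card_congr (Subgroup.subgroupOfEquivOfLe inf_le_left).toEquiv]
  have h3 : (D.subgroupOf M).index = D.index := h.relIndex_eq
  rw [← h1, h2, h3, mul_comm]

/-- A set on which a group acts with all stabilisers inside `K` has size divisible by `[M : K]`. -/
theorem index_dvd_ncard {M α : Type*} [Group M] [MulAction M α] [Finite α] (K : Subgroup M) :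
    ∀ S : Set α, (∀ m : M, ∀ x ∈ S, m • x ∈ S) →
      (∀ x ∈ S, MulAction.stabilizer M x ≤ K) → K.index ∣ S.ncard := by
  intro S
  induction hn : S.ncard using Nat.strong_induction_on generalizing S with
  | _ n ih =>
    intro hinv hstab
    rcases S.eq_empty_or_nonempty with rfl | ⟨x, hx⟩
    · simp [← hn]
    · have hsub : orbit M x ⊆ S := by
        rintro y ⟨m, rfl⟩
        exact hinv m x hx
      have horb : K.index ∣ (orbit M x).ncard := by
        rw [← MulAction.index_stabilizer]
        exact Subgroup.index_dvd_of_le (hstab x hx)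
      have hfin : S.Finite := S.toFinite
      have hsum := Set.ncard_sdiff_add_ncard_of_subset hsub hfin
      have hpos : 0 < (orbit M x).ncard :=
        (Set.ncard_pos (hfin.subset hsub)).2 ⟨x, mem_orbit_self x⟩
      have hrest := ih (S \ orbit M x).ncard (by omega) (S \ orbit M x) rfl
        (fun m y hy => ⟨hinv m y hy.1, fun hmy => hy.2 (by
          have := MulAction.mem_orbit_of_mem_orbit m⁻¹ hmy
          simpa using this)⟩)
        (fun y hy => hstab y hy.1)
      rw [← hn, ← hsum]
      exact Nat.dvd_add hrest horb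

/-- Sets invariant under a covering subgroup fixing `a` have size divisible by `[G : D]`. -/
theorem Covers.index_dvd_ncard [Finite Ω] {D M : Subgroup G} (h : Covers D M) (hU : Uniq D Ω)
    (a : Ω) (hMa : ∀ m ∈ M, m • a = a) (S : Set Ω) (haS : a ∉ S)
    (hinv : ∀ m ∈ M, ∀ x ∈ S, m • x ∈ S) : D.index ∣ S.ncard := by
  have := H25.Derange.index_dvd_ncard (D.subgroupOf M) S (fun m x hx => hinv m m.2 x hx)
    (fun x hx m hm => by
      rw [Subgroup.mem_subgroupOf]
      by_contra hD
      have := hU _ hD a x (hMa m m.2) hm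
      exact haS (this ▸ hx))
  rwa [show (D.subgroupOf M).index = D.index from h.relIndex_eq] at this

/-- The key counting step: inside a subgroup `N` covering `G/D` whose elements outside `D`
fix exactly one point, all those fixed points form one orbit and one stabiliser covers `G/D`. -/
theorem exists_covering_stabilizer [Finite G] [Finite Ω] {D N : Subgroup G} [D.Normal]
    (hN : Covers D N) (hU : Uniq D Ω) (hex : ∀ g : G, g ∉ D → ∃ x : Ω, g • x = x)
    (hd : 2 ≤ D.index) :
    ∃ b : Ω, Covers D (N ⊓ stabilizer G b) ∧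
      ∀ g ∈ N, g ∉ D → ∀ x : Ω, g • x = x → x ∈ MulAction.orbit N b := by
  classical
  have := Fintype.ofFinite G
  have := Fintype.ofFinite Ω
  let P : Finset G := {g : G | g ∈ N ∧ g ∉ D}
  let f : Ω → ℕ := fun x => (P.filter fun g => g • x = x).card
  -- total
  have htot : ∑ x, f x = P.card := by
    simp only [f, Finset.card_filter]
    rw [Finset.sum_comm, Finset.card_eq_sum_ones]
    refine Finset.sum_congr rfl fun g hg => ?_
    obtain ⟨-, hgD⟩ := (Finset.mem_filter.1 hg).2
    obtain ⟨x, hx⟩ := hex g hgD
    rw [Finset.sum_eq_single x (fun y _ hy => if_neg fun h => hy (hU g hgD y x h hx))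
      (by simp), if_pos hx]
  have hPcard : P.card + Nat.card (N ⊓ D : Subgroup G) = Nat.card N := by
    have h1 : ({g : G | g ∈ N} : Finset G).card = Nat.card N := by
      rw [Nat.card_eq_fintype_card, Fintype.card_subtype]
    have h2 : ({g : G | g ∈ N ∧ g ∈ D} : Finset G).card = Nat.card (N ⊓ D : Subgroup G) := by
      rw [Nat.card_eq_fintype_card, Fintype.card_subtype]
      congr 1
      ext g
      simp [Subgroup.mem_inf]
    rw [← h1, ← h2, ← Finset.card_filter_add_card_filter_not
      (s := ({g : G | g ∈ N} : Finset G)) (fun g => g ∈ D), Finset.filter_filter,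
      Finset.filter_filter]
    simp only [P]
    omega
  -- local
  have hloc : ∀ x : Ω, f x + Nat.card ((N ⊓ stabilizer G x) ⊓ D : Subgroup G) =
      Nat.card (N ⊓ stabilizer G x : Subgroup G) := by
    intro x
    have h1 : ({g : G | g ∈ N ⊓ stabilizer G x} : Finset G).card =
        Nat.card (N ⊓ stabilizer G x : Subgroup G) := by
      rw [Nat.card_eq_fintype_card, Fintype.card_subtype]
    have h2 : ({g : G | g ∈ N ⊓ stabilizer G x ∧ g ∈ D} : Finset G).card =
        Nat.card ((N ⊓ stabilizer G x) ⊓ D : Subgroup G) := by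
      rw [Nat.card_eq_fintype_card, Fintype.card_subtype]
      congr 1
      ext g
      simp [Subgroup.mem_inf]
    rw [← h1, ← h2, ← Finset.card_filter_add_card_filter_not
      (s := ({g : G | g ∈ N ⊓ stabilizer G x} : Finset G)) (fun g => g ∈ D), Finset.filter_filter,
      Finset.filter_filter]
    simp only [f, P, Finset.filter_filter, Subgroup.mem_inf, mem_stabilizer_iff]
    rw [add_comm]
    congr 2
    ext g
    simp only [Finset.mem_filter, Finset.mem_univ, true_and]
    tauto
  have hinv : ∀ n ∈ N, ∀ x : Ω, f (n • x) = f x := by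
    intro n hn x
    simp only [f]
    refine Finset.card_equiv (MulAut.conj n⁻¹).toEquiv fun g => ?_
    simp only [MulEquiv.toEquiv_eq_coe, MulEquiv.coe_toEquiv, MulAut.conj_apply, inv_inv,
      Finset.mem_filter, P, Finset.mem_univ, true_and]
    have hND : n⁻¹ * g * n ∈ D ↔ g ∈ D := by
      constructor
      · intro h
        have := ‹D.Normal›.conj_mem _ h n
        simpa [mul_assoc] using this
      · intro h
        have := ‹D.Normal›.conj_mem _ h n⁻¹
        simpa [mul_assoc] using this
    have hNN : n⁻¹ * g * n ∈ N ↔ g ∈ N := by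
      rw [Subgroup.mul_mem_cancel_right _ hn, Subgroup.mul_mem_cancel_left _ (inv_mem hn)]
    rw [hND, hNN]
    simp only [mul_smul, inv_smul_eq_iff]
  -- an orbit carrying fixed points has at least half
  have horb : ∀ x : Ω, 0 < f x →
      Nat.card N ≤ 2 * ((orbit N x).ncard * f x) ∧
      (orbit N x).ncard * Nat.card (N ⊓ stabilizer G x : Subgroup G) = Nat.card N := by
    intro x hx
    have hos : (orbit N x).ncard * Nat.card (N ⊓ stabilizer G x : Subgroup G) = Nat.card N := by
      rw [← MulAction.index_stabilizer]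
      have h1 : stabilizer N x = (N ⊓ stabilizer G x).subgroupOf N := by
        ext m
        simp [Subgroup.mem_subgroupOf, Subgroup.smul_def]
      rw [h1, ← Nat.card_congr (Subgroup.subgroupOfEquivOfLe
        (inf_le_left : N ⊓ stabilizer G x ≤ N)).toEquiv, Subgroup.index_mul_card]
    refine ⟨?_, hos⟩
    set A := Nat.card ((N ⊓ stabilizer G x) ⊓ D : Subgroup G)
    set B := Nat.card (N ⊓ stabilizer G x : Subgroup G)
    have hdvd : A ∣ B := Subgroup.card_dvd_of_le inf_le_left
    have hlt : A < B := by have := hloc x; omega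
    have h2A : 2 * A ≤ B := by
      obtain ⟨k, hk⟩ := hdvd
      rcases k with _ | _ | k
      · omega
      · omega
      · rw [hk]; nlinarith
    have : B ≤ 2 * f x := by have := hloc x; omega
    calc Nat.card N = (orbit N x).ncard * B := hos.symm
      _ ≤ (orbit N x).ncard * (2 * f x) := Nat.mul_le_mul_left _ this
      _ = _ := by ring
  have hNpos : 0 < Nat.card N := Nat.card_pos
  have hNd : Nat.card N = D.index * Nat.card (N ⊓ D : Subgroup G) := hN.card_eq
  have hNDpos : 0 < Nat.card (N ⊓ D : Subgroup G) := Nat.card_pos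
  obtain ⟨b, hb⟩ : ∃ b, 0 < f b := by
    by_contra hcon
    push Not at hcon
    have : ∑ x, f x = 0 := Finset.sum_eq_zero fun x _ => by have := hcon x; omega
    rw [htot] at this
    have : D.index * Nat.card (N ⊓ D : Subgroup G) = Nat.card (N ⊓ D : Subgroup G) := by omega
    nlinarith
  let B : Finset Ω := (orbit N b).toFinset
  have hBsum : ∑ x ∈ B, f x = (orbit N b).ncard * f b := by
    rw [Finset.sum_const_nat (m := f b) (fun x hx => by
      obtain ⟨n, rfl⟩ := Set.mem_toFinset.1 hx
      exact hinv n n.2 b), Set.ncard_eq_toFinset_card']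
  have hall : ∀ x, x ∉ B → f x = 0 := by
    intro x hx
    by_contra hne
    have hxB : x ∉ orbit N b := by simpa [B] using hx
    let C : Finset Ω := (orbit N x).toFinset
    have hdis : Disjoint B C := by
      rw [Finset.disjoint_left]
      intro y hy hy'
      simp only [B, C, Set.mem_toFinset] at hy hy'
      exact hxB (orbit_eq_iff.1 ((orbit_eq_iff.2 hy').symm.trans (orbit_eq_iff.2 hy)))
    have hCsum : ∑ y ∈ C, f y = (orbit N x).ncard * f x := by
      rw [Finset.sum_const_nat (m := f x) (fun y hy => by
        obtain ⟨n, rfl⟩ := Set.mem_toFinset.1 hy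
        exact hinv n n.2 x), Set.ncard_eq_toFinset_card']
    have hle : ∑ y ∈ B ∪ C, f y ≤ ∑ y, f y := Finset.sum_le_sum_of_subset (Finset.subset_univ _)
    rw [Finset.sum_union hdis, hBsum, hCsum, htot] at hle
    have h1 := (horb b hb).1
    have h2 := (horb x (Nat.pos_of_ne_zero hne)).1
    omega
  refine ⟨b, covers_of_relIndex_eq ?_, fun g hgN hgD x hx => ?_⟩
  · have hBtot : (orbit N b).ncard * f b = P.card := by
      rw [← hBsum, ← htot]
      exact Finset.sum_subset (Finset.subset_univ _) fun x _ hx => hall x hx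
    have hl := hloc b
    have hos := (horb b hb).2
    set A := Nat.card ((N ⊓ stabilizer G b) ⊓ D : Subgroup G)
    set K := (N ⊓ stabilizer G b : Subgroup G)
    set O := (orbit N b).ncard
    have hA : O * A = Nat.card (N ⊓ D : Subgroup G) := by
      have : O * f b + O * A = O * Nat.card K := by rw [← mul_add, hl]
      omega
    have h1 : Nat.card (D.subgroupOf K) = A := by
      rw [← Subgroup.inf_subgroupOf_right D K, inf_comm,
        Nat.card_congr (Subgroup.subgroupOfEquivOfLe inf_le_left).toEquiv]
    have h2 := (D.subgroupOf K).card_mul_index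
    rw [h1] at h2
    have hOpos : 0 < O * A := by rw [hA]; exact hNDpos
    have h3 : (O * A) * (D.subgroupOf K).index = (O * A) * D.index := by
      calc (O * A) * (D.subgroupOf K).index = O * Nat.card K := by rw [mul_assoc, h2]
        _ = Nat.card N := hos
        _ = _ := by rw [hNd, hA, mul_comm]
    exact Nat.eq_of_mul_eq_mul_left hOpos h3
  · by_contra hxb
    have h0 := hall x (by simpa [B] using hxb)
    have hmem : g ∈ P.filter (fun g => g • x = x) := by simp [P, hgN, hgD, hx]
    have hpos : 0 < f x := Finset.card_pos.2 ⟨g, hmem⟩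
    omega

/-- Frattini argument inside an ambient group. -/
theorem frattini [Finite G] {r : ℕ} [Fact r.Prime] {K M : Subgroup G}
    (hM : M ≤ Subgroup.normalizer (K : Set G)) (P : Sylow r K) {m : G} (hm : m ∈ M) :
    ∃ k ∈ K, k⁻¹ * m ∈ Subgroup.normalizer (((P : Subgroup K).map K.subtype : Subgroup G) : Set G) := by
  have hmK : ∀ x, x ∈ K ↔ m * x * m⁻¹ ∈ K := Subgroup.mem_normalizer_iff.1 (hM hm)
  let c : K ≃* K :=
    { toFun := fun x => ⟨m * x * m⁻¹, (hmK x).1 x.2⟩
      invFun := fun x => ⟨m⁻¹ * x * m, (hmK _).2 (by simp [mul_assoc])⟩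
      left_inv := fun x => Subtype.ext (by simp [mul_assoc])
      right_inv := fun x => Subtype.ext (by simp [mul_assoc])
      map_mul' := fun x y => Subtype.ext (by simp [mul_assoc]) }
  let Q : Sylow r K := P.comapOfInjective c.symm.toMonoidHom c.symm.injective
    (le_top.trans (top_le_iff.2 (MonoidHom.range_eq_top.2 fun x => ⟨c x, c.symm_apply_apply x⟩)))
  obtain ⟨k, hk⟩ := MulAction.exists_smul_eq K P Q
  refine ⟨(k : G), k.2, ?_⟩
  rw [Subgroup.mem_normalizer_iff]
  intro y
  simp only [Subgroup.mem_map, Subgroup.coe_subtype]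
  have hQ : ∀ z : K, z ∈ (Q : Subgroup K) ↔ c.symm z ∈ (P : Subgroup K) := fun z => Iff.rfl
  have hQ' : ∀ z : K, k⁻¹ * z * k ∈ (P : Subgroup K) ↔ z ∈ (Q : Subgroup K) := by
    intro z
    rw [← hk, Sylow.coe_subgroup_smul, Subgroup.mem_pointwise_smul_iff_inv_smul_mem]
    simp [MulAut.smul_def, mul_assoc]
  constructor
  · rintro ⟨x, hx, rfl⟩
    refine ⟨k⁻¹ * c x * k, (hQ' _).2 ((hQ _).2 (by simpa using hx)), ?_⟩
    simp [c, mul_assoc]
  · rintro ⟨x, hx, hxy⟩
    have h1 := (hQ (k * x * k⁻¹)).1 ((hQ' _).1 (by simpa [mul_assoc] using hx))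
    refine ⟨_, h1, ?_⟩
    simp [c, hxy, mul_assoc]

end H25.Derange
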