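import Cfsg.Agent.H13.TICoeff
import Cfsg.Agent.H13.PermChar
import Cfsg.Agent.H13.Kernel

/-!
# Exceptional characters for a regular abelian TI-subgroup

If an abelian subgroup `R` of `N` complements `K`, contains the centralisers of its nontrivial
elements and generates `N` normally, and the action on `N / K` has rank at least three, then
`#R + e ≤ e ^ 2 + 1` for `e = #(N_N(R) ∩ K)`.
-/

set_option autoImplicit false
set_option linter.unusedSectionVars false
set_option linter.unusedVariables false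

open Cfsg
open scoped ComplexConjugate

namespace H25.Derange.Exc

universe u

variable {G : Type u} [Group G] [Fintype G] {R K : Subgroup G}

theorem hyp (hcomm : IsMulCommutative R)
    (hcent : ∀ x ∈ R, x ≠ 1 → Subgroup.centralizer {x} ≤ R) : H13.TI.Hyp R := by
  constructor
  · intro g x hx hx1 hgx
    have key : ∀ r ∈ R, g * r * g⁻¹ ∈ R := by
      intro r hr
      refine hcent _ hgx (by simpa using hx1) (Subgroup.mem_centralizer_singleton_iff.2 ?_)
      have e : r * x = x * r :=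
        congrArg Subtype.val (hcomm.is_comm.comm (⟨r, hr⟩ : R) ⟨x, hx⟩)
      calc g * r * g⁻¹ * (g * x * g⁻¹) = g * (r * x) * g⁻¹ := by group
        _ = g * x * g⁻¹ * (g * r * g⁻¹) := by rw [e]; group
    refine Subgroup.mem_normalizer_iff.2 fun r => ⟨key r, fun hr => ?_⟩
    let f : R → R := fun a => ⟨g * a * g⁻¹, key a a.2⟩
    have hf : Function.Injective f := fun a b h => by
      have := congrArg Subtype.val h
      exact Subtype.ext (by simpa [f] using this)
    obtain ⟨a, ha⟩ := Finite.injective_iff_surjective.1 hf ⟨_, hr⟩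
    have := congrArg Subtype.val ha
    simp only [f, mul_left_inj, mul_right_inj] at this
    rw [← this]
    exact a.2
  · intro g x hx hx1 hgx
    exact hcent x hx hx1 (Subgroup.mem_centralizer_singleton_iff.2 hgx)

theorem relIndex_eq (hcompl : Subgroup.IsComplement' K R) :
    R.relIndex (Subgroup.normalizer (R : Set G))
      = Nat.card (Subgroup.normalizer (R : Set G) ⊓ K : Subgroup G) := by
  have h1 : Nat.card ((Subgroup.normalizer (R : Set G) ⊓ K : Subgroup G) × R)
      = Nat.card (Subgroup.normalizer (R : Set G)) := by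
    refine Nat.card_congr (Equiv.ofBijective (fun p => (⟨(p.1 : G) * p.2,
      mul_mem p.1.2.1 (Subgroup.le_normalizer p.2.2)⟩ : Subgroup.normalizer (R : Set G))) ⟨?_, ?_⟩)
    · intro p q hpq
      have h := congrArg Subtype.val hpq
      have h' := hcompl.1 (a₁ := (⟨p.1, p.1.2.2⟩, p.2)) (a₂ := (⟨q.1, q.1.2.2⟩, q.2)) h
      rw [Prod.mk.injEq, Subtype.mk.injEq] at h'
      exact Prod.ext (Subtype.ext h'.1) h'.2
    · intro g
      obtain ⟨⟨k, r⟩, hkr⟩ := hcompl.2 (g : G)
      have hkr' : (k : G) * (r : G) = g := hkr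
      refine ⟨(⟨k, ?_, k.2⟩, r), Subtype.ext hkr⟩
      have hk : (k : G) = g * (r : G)⁻¹ := by rw [← hkr']; group
      rw [hk]
      exact Subgroup.mul_mem _ g.2 (Subgroup.inv_mem _ (Subgroup.le_normalizer r.2))
  have h2 : (Nat.card (Subgroup.normalizer (R : Set G)) : ℂ)
      = (Nat.card R : ℂ) * (R.relIndex (Subgroup.normalizer (R : Set G)) : ℂ) :=
    H13.TI.card_normalizer
  rw [← h1, Nat.card_prod, Nat.cast_mul, mul_comm] at h2
  exact_mod_cast (mul_left_cancel₀ (Nat.cast_ne_zero.2 Nat.card_pos.ne') h2).symm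

section Dual

variable [Fintype R] [Fintype (R →* ℂˣ)]

theorem linIrr_bijective (hcomm : IsMulCommutative R) :
    Function.Bijective (H12.linIrr : (R →* ℂˣ) → IrrCharacter R) := by
  refine ⟨H12.linIrr_injective, fun χ => ?_⟩
  obtain ⟨f, hf⟩ := H12.exists_monoidHom_of_apply_one_eq_one (H12.isCharacter_irr χ)
    (H12.irr_apply_one_of_comm hcomm.is_comm.comm χ)
  exact ⟨f, Subtype.ext hf⟩

theorem class_of_comm (hcomm : IsMulCommutative R) (f : R → ℂ) : IsClassFunction R f := by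
  intro a b
  rw [hcomm.is_comm.comm b a, mul_inv_cancel_right]

theorem expand (hcomm : IsMulCommutative R) (f : R → ℂ) (r : R) :
    f r = ∑ θ : R →* ℂˣ, classInner f (H13.TI.lf θ) * (θ r : ℂ) := by
  rw [H12.classFunction_apply_eq_sum (class_of_comm hcomm f) r]
  exact (Fintype.sum_equiv (Equiv.ofBijective _ (linIrr_bijective hcomm)) _ _ fun θ => rfl).symm

theorem res_eq (hcomm : IsMulCommutative R) (χ : IrrCharacter G) (r : R) :
    (χ : G → ℂ) (r : G) = ∑ θ : R →* ℂˣ, (H13.TI.coef χ θ : ℂ) * (θ r : ℂ) := by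
  have h := expand hcomm (fun h : R => (χ : G → ℂ) (h : G)) r
  simpa only [H13.TI.coef_res] using h

theorem sum_dual (hcomm : IsMulCommutative R) (y : R) [Decidable (y = 1)] :
    ∑ θ : R →* ℂˣ, (θ y : ℂ) = if y = 1 then (Nat.card R : ℂ) else 0 := by
  have h := H12.regular_eq_sum (G := R) y
  rw [← Fintype.sum_equiv (Equiv.ofBijective _ (linIrr_bijective hcomm))
    (fun θ => (θ y : ℂ)) _ (fun θ => by simp [H12.linIrr])] at h
  rw [h]
  split_ifs <;> rfl

theorem card_dual (hcomm : IsMulCommutative R) :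
    Fintype.card (R →* ℂˣ) = Nat.card R := by
  classical
  have h := sum_dual hcomm (1 : R)
  simp only [map_one, Units.val_one, Finset.sum_const, Finset.card_univ, nsmul_eq_mul, mul_one,
    if_true] at h
  exact_mod_cast h

theorem degree_eq (hcomm : IsMulCommutative R) (χ : IrrCharacter G) :
    H12.degree (χ : G → ℂ) = ∑ θ : R →* ℂˣ, H13.TI.coef χ θ := by
  have h := res_eq hcomm χ 1
  simp only [OneMemClass.coe_one, map_one, Units.val_one, mul_one, H12.irr_apply_one] at h
  exact_mod_cast h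

/-- The coefficients of a combination of irreducible characters at a linear character. -/
theorem comb_inner (m : IrrCharacter G → ℕ) (θ : R →* ℂˣ) :
    classInner (fun r : R => (∑ χ, (m χ : ℂ) • (χ : G → ℂ)) (r : G)) (H13.TI.lf θ)
      = ((∑ χ, m χ * H13.TI.coef χ θ : ℕ) : ℂ) := by
  have e : (fun r : R => (∑ χ, (m χ : ℂ) • (χ : G → ℂ)) (r : G))
      = ∑ χ, (m χ : ℂ) • fun r : R => (χ : G → ℂ) (r : G) := by
    funext r
    simp only [Finset.sum_apply, Pi.smul_apply]
  rw [e, H12.classInner_sum_left]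
  simp only [H12.classInner_smul_left, H13.TI.coef_res]
  push_cast
  rfl

theorem exists_coef_ne_zero (hcomm : IsMulCommutative R)
    (hgen : Subgroup.normalClosure (R : Set G) = ⊤) (χ : IrrCharacter G)
    (hχ : χ ≠ H12.oneIrr G) : ∃ θ : R →* ℂˣ, θ ≠ 1 ∧ H13.TI.coef χ θ ≠ 0 := by
  classical
  by_contra h
  push Not at h
  apply hχ
  have hres : ∀ r : R, (χ : G → ℂ) (r : G) = (χ : G → ℂ) 1 := by
    intro r
    have h1 : ∀ s : R, (χ : G → ℂ) (s : G) = (H13.TI.coef χ (1 : R →* ℂˣ) : ℂ) := by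
      intro s
      rw [res_eq hcomm χ s, Finset.sum_eq_single (1 : R →* ℂˣ)]
      · simp
      · intro θ _ hθ
        rw [h θ hθ]
        simp
      · simp
    rw [h1 r, ← h1 1]
    rfl
  obtain ⟨n, ρ, hirr, hρ⟩ := χ.2
  have hker : (R : Set G) ⊆ (MonoidHom.ker ρ : Set G) := by
    intro r hr
    have h1 := hres ⟨r, hr⟩
    rw [← hρ, Representation.char_one] at h1
    show ρ r = 1
    rw [(H12.character_eq_finrank_iff ρ r).1 h1]
    rfl
  have hall : ∀ g : G, (χ : G → ℂ) g = (χ : G → ℂ) 1 := by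
    intro g
    have hg : g ∈ MonoidHom.ker ρ :=
      Subgroup.normalClosure_le_normal hker (by rw [hgen]; exact Subgroup.mem_top g)
    rw [← hρ]
    show LinearMap.trace ℂ _ (ρ g) = LinearMap.trace ℂ _ (ρ 1)
    rw [MonoidHom.mem_ker.1 hg, show ρ 1 = 1 from ρ.map_one]
  by_contra hne
  have h0 := H12.classInner_irr_ne (G := G) hne
  rw [H12.classInner_def] at h0
  simp only [hall, H12.oneIrr_apply, map_one, mul_one, Finset.sum_const, Finset.card_univ,
    nsmul_eq_mul, ← Nat.card_eq_fintype_card] at h0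
  rw [← mul_assoc, inv_mul_cancel₀ H12.card_ne_zero', one_mul] at h0
  exact H12.irr_apply_one_ne_zero χ h0

theorem coef_one (θ : R →* ℂˣ) [Decidable (θ = 1)] :
    H13.TI.coef (H12.oneIrr G) θ = if θ = 1 then 1 else 0 := by
  classical
  have h := H13.TI.coef_res (H12.oneIrr G) θ
  have e : (fun r : R => (H12.oneIrr G : G → ℂ) (r : G)) = H13.TI.lf (1 : R →* ℂˣ) := by
    funext r
    simp [H13.TI.lf, H12.oneIrr_apply]
  rw [e, H13.TI.lf_inner] at h
  by_cases hθ : θ = 1
  · rw [if_pos hθ.symm] at h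
    rw [if_pos hθ]
    exact_mod_cast h.symm
  · rw [if_neg (Ne.symm hθ)] at h
    rw [if_neg hθ]
    exact_mod_cast h.symm

/-- The permutation character on the cosets of `K`. -/
theorem exists_mult_perm (hcompl : Subgroup.IsComplement' K R)
    (hrank : ∃ x ∉ K, ∃ y ∉ K, ∀ k₁ ∈ K, ∀ k₂ ∈ K, k₁ * x * k₂ ≠ y) :
    ∃ m : IrrCharacter G → ℕ, m (H12.oneIrr G) = 1 ∧ 3 ≤ ∑ χ, m χ * m χ ∧
      ∀ θ : R →* ℂˣ, ∑ χ, m χ * H13.TI.coef χ θ = 1 := by
  classical
  haveI : Fintype (G ⧸ K) := Fintype.ofFinite _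
  let a : G ⧸ K := ((1 : G) : G ⧸ K)
  obtain ⟨m, hm, h1, -, hsq⟩ := H13.rank_and_degree (G := G) a
  refine ⟨m, h1, ?_, ?_⟩
  · rw [hsq]
    obtain ⟨x, hx, y, hy, hxy⟩ := hrank
    have hstab : MulAction.stabilizer G a = K := MulAction.stabilizer_quotient K
    let q : Fin 3 → MulAction.orbitRel.Quotient (MulAction.stabilizer G a) (G ⧸ K) :=
      ![Quotient.mk'' a, Quotient.mk'' ((x : G) : G ⧸ K), Quotient.mk'' ((y : G) : G ⧸ K)]
    have key : ∀ u v : G,
        (Quotient.mk'' ((u : G) : G ⧸ K) :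
          MulAction.orbitRel.Quotient (MulAction.stabilizer G a) (G ⧸ K))
          = Quotient.mk'' ((v : G) : G ⧸ K) → ∃ k₁ ∈ K, ∃ k₂ ∈ K, k₁ * v * k₂ = u := by
      intro u v huv
      obtain ⟨⟨k, hk⟩, hku⟩ := (Quotient.eq''.1 huv :
        ((u : G) : G ⧸ K) ∈ MulAction.orbit (MulAction.stabilizer G a) ((v : G) : G ⧸ K))
      rw [hstab] at hk
      have hku' : ((k * v : G) : G ⧸ K) = (u : G ⧸ K) := hku
      exact ⟨k, hk, (k * v)⁻¹ * u, QuotientGroup.eq.1 hku', by group⟩
    have hinj : Function.Injective q := by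
      intro i j hij
      fin_cases i <;> fin_cases j <;> first | rfl | exfalso
      all_goals simp only [q, a, Matrix.cons_val] at hij
      · obtain ⟨k₁, h₁, k₂, h₂, h⟩ := key _ _ hij.symm
        exact hx (by rw [← h, mul_one]; exact mul_mem h₁ h₂)
      · obtain ⟨k₁, h₁, k₂, h₂, h⟩ := key _ _ hij.symm
        exact hy (by rw [← h, mul_one]; exact mul_mem h₁ h₂)
      · obtain ⟨k₁, h₁, k₂, h₂, h⟩ := key _ _ hij
        exact hx (by rw [← h, mul_one]; exact mul_mem h₁ h₂)
      · obtain ⟨k₁, h₁, k₂, h₂, h⟩ := key _ _ hij.symm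
        exact hxy k₁ h₁ k₂ h₂ h
      · obtain ⟨k₁, h₁, k₂, h₂, h⟩ := key _ _ hij
        exact hy (by rw [← h, mul_one]; exact mul_mem h₁ h₂)
      · obtain ⟨k₁, h₁, k₂, h₂, h⟩ := key _ _ hij
        exact hxy k₁ h₁ k₂ h₂ h
    have := Nat.card_le_card_of_injective q hinj
    rw [Nat.card_fin] at this
    exact this
  · intro θ
    obtain ⟨m', hm'⟩ := H12.IsCharacter.exists_mult
      (H12.isCharacter_character (permRep ℂ G (G ⧸ K)))
    have hmm : m' = m := funext fun χ => by
      have h := hm χ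
      rw [hm', H12.classInner_sum_smul_irr] at h
      exact_mod_cast h
    subst hmm
    have hπ : ∀ r : R, (permRep ℂ G (G ⧸ K)).character (r : G)
        = if r = 1 then (Nat.card R : ℂ) else 0 := by
      intro r
      rw [H13.permRep_character]
      by_cases hr : r = 1
      · subst hr
        rw [if_pos rfl, Nat.cast_inj]
        have e : MulAction.fixedBy (G ⧸ K) ((1 : R) : G) = Set.univ := by
          ext p; simp
        rw [e, Nat.card_congr (Equiv.Set.univ _), ← Subgroup.index_eq_card,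
          hcompl.symm.index_eq_card]
      · rw [if_neg hr, Nat.cast_eq_zero]
        refine Nat.card_eq_zero.2 (Or.inl ⟨fun ⟨p, hp⟩ => ?_⟩)
        obtain ⟨g, rfl⟩ := QuotientGroup.mk_surjective p
        obtain ⟨⟨r', k⟩, hrk⟩ := hcompl.symm.2 g
        have hrk' : (r' : G) * (k : G) = g := hrk
        have hp' : (((r : G) * g : G) : G ⧸ K) = (g : G ⧸ K) := hp
        have hmem := QuotientGroup.eq.1 hp'
        rw [← hrk'] at hmem
        have hr2 : (r' : G)⁻¹ * (r : G)⁻¹ * r' ∈ K := by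
          have := mul_mem (mul_mem k.2 hmem) (inv_mem k.2)
          rwa [show (k : G) * (((r : G) * (r' * k))⁻¹ * (r' * k)) * (k : G)⁻¹
            = (r' : G)⁻¹ * (r : G)⁻¹ * r' by group] at this
        have hR : (r' : G)⁻¹ * (r : G)⁻¹ * r' ∈ R :=
          mul_mem (mul_mem (inv_mem r'.2) (inv_mem r.2)) r'.2
        have h0 : (r' : G)⁻¹ * (r : G)⁻¹ * r' = 1 :=
          Subgroup.disjoint_def.1 hcompl.disjoint hr2 hR
        apply hr
        have h2 : (r : G)⁻¹ = 1 := by
          calc (r : G)⁻¹ = (r' : G) * ((r' : G)⁻¹ * (r : G)⁻¹ * r') * (r' : G)⁻¹ := by group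
            _ = 1 := by rw [h0]; group
        exact Subtype.ext (inv_eq_one.1 h2)
    have h := comb_inner (R := R) m' θ
    rw [← hm'] at h
    simp only [hπ] at h
    rw [H12.classInner_def, Finset.sum_eq_single (1 : R) (fun r _ hr => by simp [hr]) (by simp)]
      at h
    simp only [if_true, H13.TI.lf_one_apply, map_one, mul_one] at h
    rw [inv_mul_cancel₀ (Nat.cast_ne_zero.2 Nat.card_pos.ne')] at h
    exact_mod_cast h.symm

/-- The exceptional constituents of the permutation character. -/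
theorem exists_exceptional (hcompl : Subgroup.IsComplement' K R) (hcomm : IsMulCommutative R)
    (hgen : Subgroup.normalClosure (R : Set G) = ⊤)
    (hrank : ∃ x ∉ K, ∃ y ∉ K, ∀ k₁ ∈ K, ∀ k₂ ∈ K, k₁ * x * k₂ ≠ y)
    (F : H13.TI.Family R) :
    ∃ c : Fin F.w → IrrCharacter G, Function.Injective c ∧ (∀ s, c s ≠ H12.oneIrr G) ∧
      (∀ s, H13.TI.coef (c s) (1 : R →* ℂˣ) = 0) ∧
      (∀ s θ, θ ≠ 1 → (H13.TI.coef (c s) θ = 1 ∧ H13.TI.Rel R (F.rep s) θ) ∨
        (H13.TI.coef (c s) θ = 0 ∧ ¬ H13.TI.Rel R (F.rep s) θ)) ∧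
      (∀ χ, (∀ s, c s ≠ χ) → ∀ θ φ : R →* ℂˣ, θ ≠ 1 → φ ≠ 1 →
        H13.TI.coef χ θ = H13.TI.coef χ φ) := by
  classical
  obtain ⟨m, hm1, hsq, hco⟩ := exists_mult_perm hcompl hrank
  -- uniqueness of the constituent at a nontrivial linear character
  have huniq : ∀ θ : R →* ℂˣ, θ ≠ 1 → ∃ χ, χ ≠ H12.oneIrr G ∧ m χ = 1 ∧
      H13.TI.coef χ θ = 1 ∧ ∀ ψ, ψ ≠ χ → m ψ * H13.TI.coef ψ θ = 0 := by
    intro θ hθ
    obtain ⟨χ, -, hχ⟩ : ∃ χ ∈ (Finset.univ : Finset (IrrCharacter G)),
        m χ * H13.TI.coef χ θ ≠ 0 :=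
      Finset.exists_ne_zero_of_sum_ne_zero (by rw [hco θ]; omega)
    have hs := Finset.add_sum_erase Finset.univ (fun χ => m χ * H13.TI.coef χ θ)
      (Finset.mem_univ χ)
    simp only [hco θ] at hs
    have h1 : m χ * H13.TI.coef χ θ = 1 := by omega
    refine ⟨χ, ?_, Nat.eq_one_of_mul_eq_one_right h1, Nat.eq_one_of_mul_eq_one_left h1,
      fun ψ hψ => ?_⟩
    · rintro rfl
      rw [coef_one, if_neg hθ, mul_zero] at h1
      exact zero_ne_one h1
    · have := Finset.single_le_sum (f := fun χ => m χ * H13.TI.coef χ θ)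
        (fun _ _ => Nat.zero_le _) (Finset.mem_erase.2 ⟨hψ, Finset.mem_univ ψ⟩)
      omega
  choose! d hd1 hdm hdc hdu using huniq
  let c : Fin F.w → IrrCharacter G := fun s => d (F.rep s)
  have hu : ∀ s χ, m χ ≠ 0 → H13.TI.coef χ (F.rep s) ≠ 0 → χ = c s := by
    intro s χ h1 h2
    by_contra h
    exact Nat.mul_ne_zero h1 h2 (hdu _ (F.rep_ne s) χ h)
  have hcov : ∀ χ, χ ≠ H12.oneIrr G → m χ ≠ 0 → ∃ s, χ = c s := by
    intro χ h1 h2
    obtain ⟨θ, hθ, hne⟩ := exists_coef_ne_zero hcomm hgen χ h1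
    obtain ⟨s, hs⟩ := F.rep_all θ hθ
    rw [← H13.TI.coef_rel χ hs] at hne
    exact ⟨s, hu s χ h2 hne⟩
  have hnc : ∀ s, ∃ t, c t ≠ c s := by
    intro s
    by_contra h
    push Not at h
    have hz : ∀ χ, χ ≠ H12.oneIrr G → χ ≠ c s → m χ = 0 := by
      intro χ h1 h2
      by_contra h3
      obtain ⟨t, rfl⟩ := hcov χ h1 h3
      exact h2 (h t)
    have : ∑ χ, m χ * m χ = ∑ χ ∈ ({H12.oneIrr G, c s} : Finset (IrrCharacter G)), m χ * m χ := by
      refine (Finset.sum_subset (Finset.subset_univ _) fun χ _ hχ => ?_).symm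
      simp only [Finset.mem_insert, Finset.mem_singleton, not_or] at hχ
      simp [hz χ hχ.1 hχ.2]
    rw [this, Finset.sum_pair (hd1 _ (F.rep_ne s)).symm, hm1, hdm _ (F.rep_ne s)] at hsq
    omega
  have hzero : ∀ s t, c t ≠ c s → H13.TI.coef (c s) (F.rep t) = 0 := by
    intro s t hne
    by_contra h
    exact hne (hu t (c s) (by rw [hdm _ (F.rep_ne s)]; omega) h).symm
  have hmem : ∀ s t, c t ≠ c s → c s = F.mu s ∨ c s = F.mu t := by
    intro s t hne
    by_contra h
    rw [not_or] at h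
    have hd := H13.TI.coef_diff F (c s) s t
    rw [if_neg h.1, if_neg h.2, hdc _ (F.rep_ne s), hzero s t hne] at hd
    simp at hd
  have hinj : Function.Injective c := by
    intro s1 s3 h13
    by_contra hne
    obtain ⟨s2, h2⟩ := hnc s1
    have hmu : ∀ a b, a ≠ b → F.mu a ≠ F.mu b := fun a b hab e => hab (F.mu_inj e)
    have n12 : s1 ≠ s2 := fun e => h2 (by rw [e])
    have n32 : s3 ≠ s2 := fun e => h2 (by rw [← e, h13])
    have ha : c s1 = F.mu s2 := by
      rcases hmem s1 s2 h2 with h | h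
      · rcases hmem s3 s2 (by rw [← h13]; exact h2) with h' | h'
        · exact absurd (h.symm.trans (h13.trans h')) (hmu _ _ hne)
        · exact h13.trans h'
      · exact h
    rcases hmem s2 s1 (Ne.symm h2) with h | h
    · exact h2 (h.trans ha.symm)
    · rcases hmem s2 s3 (by rw [← h13]; exact Ne.symm h2) with h' | h'
      · exact h2 (h'.trans ha.symm)
      · exact hmu _ _ hne (h.symm.trans h')
  have hrange : ∀ s, ∃ t, F.mu t = c s := by
    intro s
    obtain ⟨t, ht⟩ := hnc s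
    rcases hmem s t ht with h | h
    · exact ⟨s, h.symm⟩
    · exact ⟨t, h.symm⟩
  choose σ hσ using hrange
  have hσs : Function.Surjective σ := Finite.injective_iff_surjective.1 fun a b hab => hinj (by
    rw [← hσ a, ← hσ b, hab])
  refine ⟨c, hinj, fun s => hd1 _ (F.rep_ne s), fun s => ?_, fun s θ hθ => ?_, ?_⟩
  · have h := hco 1
    have hs := Finset.add_sum_erase Finset.univ (fun χ => m χ * H13.TI.coef χ (1 : R →* ℂˣ))
      (Finset.mem_univ (H12.oneIrr G))
    simp only [h, coef_one, if_true, hm1] at hs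
    have := Finset.single_le_sum (f := fun χ => m χ * H13.TI.coef χ (1 : R →* ℂˣ))
        (fun _ _ => Nat.zero_le _)
        (Finset.mem_erase.2 ⟨hd1 _ (F.rep_ne s), Finset.mem_univ (c s)⟩)
    simp only [c, hdm _ (F.rep_ne s), one_mul] at this
    simp only [c]
    omega
  · obtain ⟨t, ht⟩ := F.rep_all θ hθ
    rw [← H13.TI.coef_rel (c s) ht]
    by_cases hst : t = s
    · subst hst
      exact Or.inl ⟨hdc _ (F.rep_ne t), ht⟩
    · refine Or.inr ⟨hzero s t fun e => hst (hinj e), fun h => hst ?_⟩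
      exact (F.rep_inj _ _ (H13.TI.rel_trans R h (H13.TI.rel_symm R ht))).symm
  · intro χ hχ θ φ hθ hφ
    obtain ⟨s, hs⟩ := F.rep_all θ hθ
    obtain ⟨t, ht⟩ := F.rep_all φ hφ
    rw [← H13.TI.coef_rel χ hs, ← H13.TI.coef_rel χ ht]
    have hne : ∀ a, χ ≠ F.mu a := by
      intro a e
      obtain ⟨b, rfl⟩ := hσs a
      exact hχ b ((hσ b).symm.trans e.symm)
    have h := H13.TI.coef_diff F χ s t
    rw [if_neg (hne s), if_neg (hne t), sub_self, mul_zero, sub_eq_zero] at h
    exact_mod_cast h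

end Dual

theorem main (hcompl : Subgroup.IsComplement' K R) (hcomm : IsMulCommutative R)
    (hcent : ∀ x ∈ R, x ≠ 1 → Subgroup.centralizer {x} ≤ R)
    (hgen : Subgroup.normalClosure (R : Set G) = ⊤)
    (he : 2 ≤ Nat.card (Subgroup.normalizer (R : Set G) ⊓ K : Subgroup G))
    (hrank : ∃ x ∉ K, ∃ y ∉ K, ∀ k₁ ∈ K, ∀ k₂ ∈ K, k₁ * x * k₂ ≠ y) :
    let e := Nat.card (Subgroup.normalizer (R : Set G) ⊓ K : Subgroup G)
    Nat.card R + e ≤ e * e + 1 ∧ (Nat.card R + e = e * e + 1 → (e - 2) ^ 2 + 1 ≤ e) := by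
  classical
  intro e
  haveI := Fintype.ofFinite R
  haveI : Finite (R →* ℂˣ) := Nat.finite_of_card_ne_zero (by
    rw [H12.card_monoidHom_units]
    exact Subgroup.index_ne_zero_of_finite)
  haveI := Fintype.ofFinite (R →* ℂˣ)
  have hH := hyp hcomm hcent
  have hn1 : 1 < Nat.card R := by
    by_contra h
    have hR : R = ⊥ := Subgroup.card_le_one_iff_eq_bot _ |>.1 (by omega)
    obtain ⟨x, hx, -⟩ := hrank
    obtain ⟨⟨k, r⟩, hkr⟩ := hcompl.2 x
    have hkr' : (k : G) * (r : G) = x := hkr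
    have hr : (r : G) = 1 := Subgroup.mem_bot.1 (hR ▸ r.2)
    rw [hr, mul_one] at hkr'
    exact hx (hkr' ▸ k.2)
  have hidx : (commutator R).index = Nat.card R := by
    rw [← H12.card_monoidHom_units, Nat.card_eq_fintype_card (α := R →* ℂˣ), card_dual hcomm]
  obtain ⟨F⟩ := H13.TI.exists_family hH (by rw [hidx]; exact hn1)
  obtain ⟨c, hcinj, hc1, hc0, hcc, hconst⟩ := exists_exceptional hcompl hcomm hgen hrank F
  have he' : R.relIndex (Subgroup.normalizer (R : Set G)) = e := relIndex_eq hcompl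
  let o : Fin F.w := ⟨0, F.w_pos⟩
  set th := c o with hth
  -- coefficients of the exceptional character
  have hcoef : ∀ s θ, H13.TI.coef (c s) θ = if H13.TI.Rel R (F.rep s) θ then 1 else 0 := by
    intro s θ
    by_cases hθ : θ = 1
    · subst hθ
      rw [hc0, if_neg fun h => H13.TI.rel_ne_one R h (F.rep_ne s) rfl]
    · rcases hcc s θ hθ with ⟨h, h'⟩ | ⟨h, h'⟩ <;> simp [h, h']
  have hsum1 : ∑ θ : R →* ℂˣ, H13.TI.coef th θ = e := by
    simp only [hth, hcoef, Finset.sum_boole, Nat.cast_id]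
    rw [← Fintype.card_subtype, ← Nat.card_eq_fintype_card,
      H13.TI.card_orbit hH (F.rep_ne o), he']
  have hdeg : (th : G → ℂ) 1 = (e : ℂ) := by
    rw [H12.irr_apply_one, degree_eq (R := R) hcomm, hsum1]
  -- the product with the conjugate
  let ψ : G → ℂ := (th : G → ℂ) * fun g => conj ((th : G → ℂ) g)
  have hψc : IsCharacter G ψ := H12.IsCharacter.mul (H12.isCharacter_irr th)
    (H12.IsCharacter.star (H12.isCharacter_irr th))
  obtain ⟨m, hm⟩ := H12.IsCharacter.exists_mult hψc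
  have hm1 : m (H12.oneIrr G) = 1 := by
    have h := H12.classInner_sum_smul_irr (fun χ => (m χ : ℂ)) (H12.oneIrr G)
    rw [← hm] at h
    have h2 := H12.classInner_irr_self th
    rw [H12.classInner_def] at h h2
    simp only [ψ, Pi.mul_apply, H12.oneIrr_apply, map_one, mul_one] at h
    rw [h2] at h
    exact_mod_cast h.symm
  have hdeg2 : e * e = ∑ χ, m χ * H12.degree (χ : G → ℂ) := by
    have h := congrFun hm 1
    simp only [ψ, Pi.mul_apply, hdeg, Complex.conj_natCast, Finset.sum_apply, Pi.smul_apply,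
      smul_eq_mul, H12.irr_apply_one] at h
    exact_mod_cast h
  have hco : ∑ χ, m χ * H13.TI.coef χ (1 : R →* ℂˣ) = e := by
    have h := comb_inner (R := R) m 1
    rw [← hm] at h
    have h2 : classInner (fun r : R => ψ (r : G)) (H13.TI.lf (1 : R →* ℂˣ))
        = classInner (fun r : R => (th : G → ℂ) (r : G)) (fun r : R => (th : G → ℂ) (r : G)) := by
      simp [H12.classInner_def, ψ, H13.TI.lf]
    rw [h2] at h
    have h3 : (fun r : R => (th : G → ℂ) (r : G))
        = ∑ θ : R →* ℂˣ, (H13.TI.coef th θ : ℂ) • H13.TI.lf θ := by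
      funext r
      rw [res_eq hcomm th r, Finset.sum_apply]
      rfl
    conv_lhs at h => arg 1; rw [h3]
    rw [H12.classInner_sum_left] at h
    have hh : ∀ θ : R →* ℂˣ, classInner (H13.TI.lf θ) (fun r : R => (th : G → ℂ) (r : G))
        = (H13.TI.coef th θ : ℂ) := fun θ => by
      rw [← H12.conj_classInner, H13.TI.coef_res, Complex.conj_natCast]
    simp only [H12.classInner_smul_left, hh] at h
    have h4 : ∑ θ : R →* ℂˣ, H13.TI.coef th θ * H13.TI.coef th θ
        = ∑ χ, m χ * H13.TI.coef χ (1 : R →* ℂˣ) := by exact_mod_cast h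
    rw [← h4, ← hsum1]
    refine Finset.sum_congr rfl fun θ _ => ?_
    simp only [hth, hcoef]
    split_ifs <;> rfl
  -- the other constituents
  let O : Finset (IrrCharacter G) :=
    Finset.univ.filter fun χ => χ ≠ H12.oneIrr G ∧ ∀ s, c s ≠ χ
  let A : IrrCharacter G → ℕ := fun χ => H13.TI.coef χ (F.rep o)
  have hA : ∀ χ ∈ O, ∀ θ : R →* ℂˣ, θ ≠ 1 → H13.TI.coef χ θ = A χ := fun χ hχ θ hθ =>
    hconst χ (Finset.mem_filter.1 hχ).2.2 θ _ hθ (F.rep_ne o)
  have hA1 : ∀ χ ∈ O, 1 ≤ A χ := by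
    intro χ hχ
    obtain ⟨θ, hθ, hne⟩ := exists_coef_ne_zero hcomm hgen χ (Finset.mem_filter.1 hχ).2.1
    rw [hA χ hχ θ hθ] at hne
    omega
  have hd : ∀ χ ∈ O, H12.degree (χ : G → ℂ)
      = H13.TI.coef χ (1 : R →* ℂˣ) + (Nat.card R - 1) * A χ := by
    intro χ hχ
    rw [degree_eq (R := R) hcomm, ← Finset.add_sum_erase _ _ (Finset.mem_univ (1 : R →* ℂˣ)),
      Finset.sum_congr rfl fun θ hθ => hA χ hχ θ (Finset.ne_of_mem_erase hθ), Finset.sum_const,
      Finset.card_erase_of_mem (Finset.mem_univ _), Finset.card_univ, card_dual hcomm, smul_eq_mul]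
  have hone : H12.oneIrr G ∉ O := fun h => (Finset.mem_filter.1 h).2.1 rfl
  have hsub : ∀ f : IrrCharacter G → ℕ,
      m (H12.oneIrr G) * f (H12.oneIrr G) + ∑ χ ∈ O, m χ * f χ ≤ ∑ χ, m χ * f χ := fun f => by
    rw [← Finset.sum_insert (f := fun χ => m χ * f χ) hone]
    exact Finset.sum_le_sum_of_subset (Finset.subset_univ _)
  have hT : ∑ χ ∈ O, m χ * H13.TI.coef χ (1 : R →* ℂˣ) = e - 1 := by
    have : ∑ χ, m χ * H13.TI.coef χ (1 : R →* ℂˣ)
        = 1 + ∑ χ ∈ O, m χ * H13.TI.coef χ (1 : R →* ℂˣ) := by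
      rw [← Finset.add_sum_erase _ _ (Finset.mem_univ (H12.oneIrr G)), hm1, coef_one, if_pos rfl,
        mul_one]
      congr 1
      refine (Finset.sum_subset ?_ ?_).symm
      · intro χ hχ
        exact Finset.mem_erase.2 ⟨(Finset.mem_filter.1 hχ).2.1, Finset.mem_univ _⟩
      · intro χ hχ hχ'
        obtain ⟨s, rfl⟩ : ∃ s, c s = χ := by
          by_contra h
          push Not at h
          exact hχ' (Finset.mem_filter.2 ⟨Finset.mem_univ _, Finset.ne_of_mem_erase hχ, h⟩)
        rw [hc0, mul_zero]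
    omega
  have hne0 : ∑ χ ∈ O, m χ * A χ ≠ 0 := by
    intro h0
    have he2 : e - 1 ≠ 0 := by omega
    rw [← hT] at he2
    obtain ⟨χ, hχ, hne⟩ := Finset.exists_ne_zero_of_sum_ne_zero he2
    have h1 := Finset.sum_eq_zero_iff.1 h0 χ hχ
    have h2 := hA1 χ hχ
    rcases Nat.mul_eq_zero.1 h1 with h | h
    · exact hne (by rw [h, zero_mul])
    · omega
  have hbound : 1 + (e - 1) + (Nat.card R - 1) * (∑ χ ∈ O, m χ * A χ) ≤ e * e := by
    refine le_trans (le_of_eq ?_)
      (hdeg2.symm ▸ hsub fun χ => H12.degree (χ : G → ℂ))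
    rw [hm1, one_mul, show H12.degree ((H12.oneIrr G : IrrCharacter G) : G → ℂ) = 1 by
      simp [H12.degree, H12.oneIrr_apply], add_assoc]
    congr 1
    rw [Finset.mul_sum, ← hT, ← Finset.sum_add_distrib]
    refine Finset.sum_congr rfl fun χ hχ => ?_
    rw [hd χ hχ]
    ring
  have hpos : (Nat.card R - 1) * 1 ≤ (Nat.card R - 1) * (∑ χ ∈ O, m χ * A χ) :=
    Nat.mul_le_mul_left _ (by omega)
  refine ⟨by omega, fun heq => ?_⟩
  -- equality
  have hS : ∑ χ ∈ O, m χ * A χ = 1 := by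
    by_contra h
    have : (Nat.card R - 1) * 2 ≤ (Nat.card R - 1) * (∑ χ ∈ O, m χ * A χ) :=
      Nat.mul_le_mul_left _ (by omega)
    omega
  obtain ⟨χ₁, hχ₁, hne₁⟩ := Finset.exists_ne_zero_of_sum_ne_zero hne0
  have hsp := Finset.add_sum_erase O (fun χ => m χ * A χ) hχ₁
  simp only [hS] at hsp
  have h11 : m χ₁ * A χ₁ = 1 := by omega
  have hA₁ : A χ₁ = 1 := Nat.eq_one_of_mul_eq_one_left h11
  have ht₁ : H13.TI.coef χ₁ (1 : R →* ℂˣ) = e - 1 := by
    rw [← hT, Finset.sum_eq_single χ₁]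
    · rw [Nat.eq_one_of_mul_eq_one_right h11, one_mul]
    · intro χ hχ hne
      have := Finset.single_le_sum (f := fun χ => m χ * A χ) (fun _ _ => Nat.zero_le _)
        (Finset.mem_erase.2 ⟨hne, hχ⟩)
      have h0 : m χ * A χ = 0 := by omega
      have hA' := hA1 χ hχ
      rcases Nat.mul_eq_zero.1 h0 with h | h
      · rw [h, zero_mul]
      · omega
    · exact fun h => absurd hχ₁ h
  obtain ⟨x, hx1⟩ : ∃ x : R, x ≠ 1 := by
    by_contra h
    push Not at h
    haveI : Subsingleton R := ⟨fun a b => (h a).trans (h b).symm⟩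
    have := Nat.card_of_subsingleton (1 : R)
    omega
  have hx1' : (x : G) ≠ 1 := fun h => hx1 (Subtype.ext h)
  have hcx : Nat.card (Subgroup.centralizer ({(x : G)} : Set G)) = Nat.card R := by
    rw [le_antisymm (hcent x x.2 hx1') fun r hr => Subgroup.mem_centralizer_singleton_iff.2
      (congrArg Subtype.val (hcomm.is_comm.comm (⟨r, hr⟩ : R) x))]
  -- the value of the extra character
  have hv₁ : ((χ₁ : G → ℂ) (x : G)) = (e : ℂ) - 2 := by
    rw [res_eq hcomm χ₁ x, ← Finset.add_sum_erase _ _ (Finset.mem_univ (1 : R →* ℂˣ)), ht₁,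
      Finset.sum_congr rfl (fun θ hθ => by
        rw [hA χ₁ hχ₁ θ (Finset.ne_of_mem_erase hθ), hA₁, Nat.cast_one, one_mul])]
    have h := sum_dual hcomm x
    rw [← Finset.add_sum_erase _ _ (Finset.mem_univ (1 : R →* ℂˣ)), if_neg hx1] at h
    simp only [MonoidHom.one_apply, Units.val_one, mul_one] at h ⊢
    rw [eq_neg_of_add_eq_zero_right h, Nat.cast_sub (by omega : 1 ≤ e), Nat.cast_one]
    ring
  -- the values of the exceptional characters
  haveI : Fintype (Subgroup.normalizer (R : Set G)) := Fintype.ofFinite _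
  have hnn : ∀ φ θ : R →* ℂˣ, φ ≠ 1 →
      (if H13.TI.Rel R φ θ then (1 : ℂ) else 0) = (Nat.card R : ℂ)⁻¹ *
        ∑ u : Subgroup.normalizer (R : Set G), if H13.TI.tw R u φ = θ then (1 : ℂ) else 0 := by
    intro φ θ hφ
    have h0 : H13.TI.nn θ φ = (Nat.card R : ℂ)⁻¹ *
        ∑ u : Subgroup.normalizer (R : Set G), if H13.TI.tw R u φ = θ then (1 : ℂ) else 0 := by
      rw [H13.TI.nn_eq]
      congr 1
      exact Finset.sum_congr (by ext; simp) fun _ _ => rfl
    rw [← h0]
    by_cases h : H13.TI.Rel R φ θ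
    · rw [if_pos h, H13.TI.nn_of_rel hH hφ h]
    · rw [if_neg h, H13.TI.nn_of_not_rel h]
  have hval : ∀ s φ, H13.TI.Rel R (F.rep s) φ → conj ((c s : G → ℂ) (x : G))
      = (Nat.card R : ℂ)⁻¹ * ∑ u : Subgroup.normalizer (R : Set G),
          conj (H13.TI.lf (H13.TI.tw R u φ) x) := by
    intro s φ hφ
    have hφ1 := H13.TI.rel_ne_one R hφ (F.rep_ne s)
    have hiff : ∀ θ, H13.TI.Rel R (F.rep s) θ ↔ H13.TI.Rel R φ θ := fun θ =>
      ⟨fun h => H13.TI.rel_trans R (H13.TI.rel_symm R hφ) h, fun h => H13.TI.rel_trans R hφ h⟩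
    have h1 : (c s : G → ℂ) (x : G) = (Nat.card R : ℂ)⁻¹ *
        ∑ u : Subgroup.normalizer (R : Set G), H13.TI.lf (H13.TI.tw R u φ) x := by
      rw [res_eq hcomm (c s) x]
      simp only [hcoef, hiff, Nat.cast_ite, Nat.cast_one, Nat.cast_zero]
      simp only [hnn φ _ hφ1, mul_assoc, Finset.sum_mul, ← Finset.mul_sum]
      rw [Finset.sum_comm]
      congr 1
      refine Finset.sum_congr rfl fun u _ => ?_
      simp [H13.TI.lf]
    rw [h1, map_mul, map_inv₀, Complex.conj_natCast, map_sum]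
  have hsumsq : ∑ s, (c s : G → ℂ) (x : G) * conj ((c s : G → ℂ) (x : G))
      = (Nat.card R : ℂ) - e := by
    have h1 : ∀ s, (c s : G → ℂ) (x : G) * conj ((c s : G → ℂ) (x : G))
        = ∑ φ ∈ Finset.univ.filter (fun φ => H13.TI.Rel R (F.rep s) φ), (φ x : ℂ) *
          ((Nat.card R : ℂ)⁻¹ * ∑ u : Subgroup.normalizer (R : Set G),
            conj (H13.TI.lf (H13.TI.tw R u φ) x)) := by
      intro s
      conv_lhs => arg 1; rw [res_eq hcomm (c s) x]
      simp only [hcoef, Nat.cast_ite, Nat.cast_one, Nat.cast_zero, ite_mul, one_mul, zero_mul,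
        ← Finset.sum_filter, Finset.sum_mul]
      exact Finset.sum_congr rfl fun φ hφ => by rw [hval s φ (Finset.mem_filter.1 hφ).2]
    rw [Finset.sum_congr rfl fun s _ => h1 s, ← Finset.sum_biUnion]
    rotate_left
    · intro i _ j _ hij
      rw [Function.onFun, Finset.disjoint_left]
      intro θ h2 h3
      simp only [Finset.mem_filter] at h2 h3
      exact hij (F.rep_inj i j (H13.TI.rel_trans R h2.2 (H13.TI.rel_symm R h3.2)))
    have e1 : ((Finset.univ : Finset (Fin F.w)).biUnion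
        fun i => Finset.univ.filter fun θ => H13.TI.Rel R (F.rep i) θ)
        = (Finset.univ : Finset (R →* ℂˣ)).erase 1 := by
      ext θ
      simp only [Finset.mem_erase, Finset.mem_univ, and_true, Finset.mem_biUnion,
        Finset.mem_filter, true_and]
      exact ⟨fun ⟨i, h⟩ => H13.TI.rel_ne_one R h (F.rep_ne i), F.rep_all θ⟩
    rw [e1]
    have h2 : ∀ φ : R →* ℂˣ, ∀ u : Subgroup.normalizer (R : Set G),
        (φ x : ℂ) * conj (H13.TI.lf (H13.TI.tw R u φ) x)
          = (φ (x * (H13.TI.cj R u x)⁻¹) : ℂ) := by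
      intro φ u
      have h3 : conj (H13.TI.lf (H13.TI.tw R u φ) x) = H13.TI.lf φ⁻¹ (H13.TI.cj R u x) :=
        H13.TI.conj_lf R φ (H13.TI.cj R u x)
      rw [h3]
      simp [H13.TI.lf]
    have h3 : ∀ φ : R →* ℂˣ, (φ x : ℂ) *
          ((Nat.card R : ℂ)⁻¹ * ∑ u : Subgroup.normalizer (R : Set G),
            conj (H13.TI.lf (H13.TI.tw R u φ) x))
        = (Nat.card R : ℂ)⁻¹ * ∑ u : Subgroup.normalizer (R : Set G),
            (φ (x * (H13.TI.cj R u x)⁻¹) : ℂ) := by
      intro φ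
      rw [mul_left_comm, Finset.mul_sum]
      simp only [h2]
    rw [Finset.sum_congr rfl fun φ _ => h3 φ, ← Finset.mul_sum, Finset.sum_comm]
    have h4 : ∀ u : Subgroup.normalizer (R : Set G),
        ∑ φ ∈ (Finset.univ : Finset (R →* ℂˣ)).erase 1, (φ (x * (H13.TI.cj R u x)⁻¹) : ℂ)
          = (if (u : G) ∈ R then (Nat.card R : ℂ) else 0) - 1 := by
      intro u
      have h := sum_dual hcomm (x * (H13.TI.cj R u x)⁻¹)
      rw [← Finset.add_sum_erase _ _ (Finset.mem_univ (1 : R →* ℂˣ)), MonoidHom.one_apply,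
        Units.val_one] at h
      rw [eq_sub_iff_add_eq', h]
      refine if_congr ?_ rfl rfl
      rw [mul_inv_eq_one, Subtype.ext_iff, H13.TI.cj_coe]
      constructor
      · intro hu
        refine hH.cent u x x.2 hx1' ?_
        conv_rhs => rw [hu]
        group
      · intro hu
        have h5 := congrArg Subtype.val (hcomm.is_comm.comm (⟨u, hu⟩ : R) x)
        simp only [Subgroup.coe_mul] at h5
        rw [h5, mul_inv_cancel_right]
    simp only [h4, Finset.sum_sub_distrib, Finset.sum_ite, Finset.sum_const, Finset.sum_const_zero,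
      Finset.card_univ, nsmul_eq_mul, add_zero, mul_one]
    have h5 : (Finset.univ.filter fun u : Subgroup.normalizer (R : Set G) => (u : G) ∈ R).card
        = Nat.card R := by
      rw [← Fintype.card_subtype, ← Nat.card_eq_fintype_card]
      exact Nat.card_congr
        { toFun := fun u => ⟨_, u.2⟩
          invFun := fun r => ⟨⟨r, Subgroup.le_normalizer r.2⟩, r.2⟩
          left_inv := fun _ => rfl
          right_inv := fun _ => rfl }
    rw [h5, ← Nat.card_eq_fintype_card, H13.TI.card_normalizer, he']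
    have h0 : (Nat.card R : ℂ) ≠ 0 := Nat.cast_ne_zero.2 Nat.card_pos.ne'
    field_simp
    ring
  -- column orthogonality
  have horth := H13.sum_normSq_irr (G := G) (x : G)
  rw [hcx] at horth
  have hsumsq' : ∑ s, Complex.normSq ((c s : G → ℂ) (x : G)) = (Nat.card R : ℝ) - e := by
    simp only [Complex.mul_conj] at hsumsq
    exact_mod_cast hsumsq
  have hc₁ : χ₁ ∉ Finset.univ.image c := by
    intro h
    obtain ⟨s, -, hs⟩ := Finset.mem_image.1 h
    exact (Finset.mem_filter.1 hχ₁).2.2 s hs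
  have hc0' : H12.oneIrr G ∉ insert χ₁ (Finset.univ.image c) := by
    simp only [Finset.mem_insert, Finset.mem_image, Finset.mem_univ, true_and, not_or]
    exact ⟨fun h => (Finset.mem_filter.1 hχ₁).2.1 h.symm, fun ⟨s, hs⟩ => hc1 s hs⟩
  have hle : ∑ φ ∈ insert (H12.oneIrr G) (insert χ₁ (Finset.univ.image c)),
      Complex.normSq ((φ : G → ℂ) (x : G))
      ≤ ∑ φ : IrrCharacter G, Complex.normSq ((φ : G → ℂ) (x : G)) :=
    Finset.sum_le_univ_sum_of_nonneg fun φ => Complex.normSq_nonneg _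
  rw [Finset.sum_insert hc0', Finset.sum_insert hc₁, Finset.sum_image hcinj.injOn, hsumsq', horth,
    H12.oneIrr_apply, map_one, hv₁] at hle
  have h2e : ((e - 2 : ℕ) : ℂ) = (e : ℂ) - 2 := by
    rw [Nat.cast_sub (by omega : 2 ≤ e)]; norm_num
  rw [← h2e, Complex.normSq_natCast] at hle
  have : (((e - 2) ^ 2 + 1 : ℕ) : ℝ) ≤ (e : ℝ) := by
    push_cast
    nlinarith
  exact_mod_cast this

end H25.Derange.Exc

namespace H25.Derange

/-- The bound for the exceptional characters of a regular abelian TI-subgroup. -/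
theorem exceptional_bound {N : Type*} [Group N] [Finite N] (R K : Subgroup N)
    (hcompl : Subgroup.IsComplement' K R) (hcomm : IsMulCommutative R)
    (hcent : ∀ x ∈ R, x ≠ 1 → Subgroup.centralizer {x} ≤ R)
    (hgen : Subgroup.normalClosure (R : Set N) = ⊤)
    (he : 2 ≤ Nat.card (Subgroup.normalizer (R : Set N) ⊓ K : Subgroup N))
    (hrank : ∃ x ∉ K, ∃ y ∉ K, ∀ k₁ ∈ K, ∀ k₂ ∈ K, k₁ * x * k₂ ≠ y) :
    let e := Nat.card (Subgroup.normalizer (R : Set N) ⊓ K : Subgroup N)
    Nat.card R + e ≤ e * e + 1 ∧ (Nat.card R + e = e * e + 1 → (e - 2) ^ 2 + 1 ≤ e) := by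
  haveI : Fintype N := Fintype.ofFinite N
  exact Exc.main hcompl hcomm hcent hgen he hrank

end H25.Derange
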