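import Cfsg.Agent.H80.Detect

/-!
# The class two layer of a `q`-group
-/

set_option autoImplicit false

namespace H25.Derange

variable {G : Type*} [Group G]

/-- In a cyclic subgroup, an element killed by the order of `b` is a power of `b`. -/
theorem mem_zpowers_of_pow [Finite G] {A : Subgroup G} (hA : IsCyclic A) {a b : G} (ha : a ∈ A)
    (hb : b ∈ A) (h : a ^ orderOf b = 1) : a ∈ Subgroup.zpowers b := by
  classical
  by_contra hne
  have := Fintype.ofFinite A
  have hle := IsCyclic.card_pow_eq_one_le (α := A) (orderOf_pos b)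
  set T : Finset A := {x : A | x ^ orderOf b = 1}
  let B : Subgroup A := (Subgroup.zpowers b).subgroupOf A
  have hBcard : Nat.card B = orderOf b := by
    rw [Nat.card_congr (Subgroup.subgroupOfEquivOfLe (Subgroup.zpowers_le.2 hb)).toEquiv,
      Nat.card_zpowers]
  have hsub : insert (⟨a, ha⟩ : A) (B : Set A) ⊆ (T : Set A) := by
    rintro x (rfl | hx)
    · simp [T, Subtype.ext_iff, h]
    · have : (⟨x, hx⟩ : B) ^ orderOf b = 1 := by rw [← hBcard]; exact pow_card_eq_one'
      simpa [T] using congrArg Subtype.val this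
  have hnm : (⟨a, ha⟩ : A) ∉ (B : Set A) := fun h' => hne h'
  have h1 := Set.ncard_le_ncard hsub T.finite_toSet
  rw [Set.ncard_insert_of_notMem hnm (Set.toFinite _), Set.ncard_coe_finset,
    ← Nat.card_coe_set_eq, SetLike.coe_sort_coe, hBcard] at h1
  omega

/-- Two elements of a cyclic group: one is a power of the other. -/
theorem mem_zpowers_or [Finite G] {A : Subgroup G} (hA : IsCyclic A) {q : ℕ} [Fact q.Prime]
    (hq : IsPGroup q A) {a b : G} (ha : a ∈ A) (hb : b ∈ A) :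
    a ∈ Subgroup.zpowers b ∨ b ∈ Subgroup.zpowers a := by
  have key : ∀ x ∈ A, ∃ k, orderOf x = q ^ k := by
    intro x hx
    obtain ⟨k, hk⟩ := (hq ⟨x, hx⟩)
    obtain ⟨j, -, hj⟩ := (Nat.dvd_prime_pow (Fact.out : q.Prime)).1
      (orderOf_dvd_of_pow_eq_one (show x ^ q ^ k = 1 by simpa using congrArg Subtype.val hk))
    exact ⟨j, hj⟩
  obtain ⟨i, hi⟩ := key a ha
  obtain ⟨j, hj⟩ := key b hb
  rcases le_total i j with h | h
  · refine Or.inl (mem_zpowers_of_pow hA ha hb (orderOf_dvd_iff_pow_eq_one.1 ?_))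
    rw [hi, hj]; exact pow_dvd_pow q h
  · refine Or.inr (mem_zpowers_of_pow hA hb ha (orderOf_dvd_iff_pow_eq_one.1 ?_))
    rw [hi, hj]; exact pow_dvd_pow q h

/-- `(xy)^n = x^n y^n c^(n choose 2)` for `yx = c xy` with `c` commuting with `x` and `y`. -/
theorem mul_pow_class_two {x y c : G} (hx : Commute c x) (hy : Commute c y)
    (h : y * x = c * (x * y)) (n : ℕ) : (x * y) ^ n = x ^ n * y ^ n * c ^ n.choose 2 := by
  have hyk : ∀ k : ℕ, y ^ k * x = c ^ k * (x * y ^ k) := by
    intro k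
    induction k with
    | zero => simp
    | succ k ih =>
      calc y ^ (k + 1) * x = y ^ k * (y * x) := by rw [pow_succ]; group
        _ = y ^ k * c * (x * y) := by rw [h]; group
        _ = c * (y ^ k * x) * y := by rw [(hy.pow_right k).symm.eq]; group
        _ = c * (c ^ k * (x * y ^ k)) * y := by rw [ih]
        _ = _ := by rw [pow_succ', pow_succ y]; group
  induction n with
  | zero => simp
  | succ n ih =>
    have hc : ∀ m : ℕ, Commute (c ^ m) (x * y) := fun m =>
      ((hx.pow_left m).mul_right (hy.pow_left m))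
    have hcy : Commute (c ^ n) (y ^ n * y) :=
      ((hy.pow_left n).pow_right n).mul_right (hy.pow_left n)
    calc (x * y) ^ (n + 1) = x ^ n * y ^ n * (c ^ n.choose 2 * (x * y)) := by
          rw [pow_succ, ih]; group
      _ = x ^ n * (y ^ n * x) * y * c ^ n.choose 2 := by rw [(hc _).eq]; group
      _ = x ^ n * (c ^ n * x) * (y ^ n * y) * c ^ n.choose 2 := by rw [hyk n]; group
      _ = x ^ n * x * (c ^ n * (y ^ n * y)) * c ^ n.choose 2 := by
          rw [(hx.pow_left n).eq]; group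
      _ = x ^ n * x * (y ^ n * y) * (c ^ n * c ^ n.choose 2) := by rw [hcy.eq]; group
      _ = _ := by
          rw [← pow_succ, ← pow_succ, ← pow_add]
          congr 2
          rw [Nat.choose_succ_succ, Nat.choose_one_right]

/-- the commutator -/
def comm' (a b : G) : G := a * b * a⁻¹ * b⁻¹

/-- the centre of `Q`, as a subgroup of the ambient group -/
def ctr (Q : Subgroup G) : Subgroup G := Q ⊓ Subgroup.centralizer (Q : Set G)

theorem mem_ctr {Q : Subgroup G} {z : G} : z ∈ ctr Q ↔ z ∈ Q ∧ ∀ g ∈ Q, Commute g z := by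
  simp [ctr, Subgroup.mem_centralizer_iff, Commute, SemiconjBy]

theorem ctr_comm (Q : Subgroup G) : IsMulCommutative (ctr Q) :=
  ⟨⟨fun a b => Subtype.ext ((mem_ctr.1 b.2).2 a (mem_ctr.1 a.2).1).eq⟩⟩

/-- `Ω₁` of the centre of `Q` modulo the centre of `Q`. -/
def layer (Q : Subgroup G) (q : ℕ) : Subgroup G where
  carrier := {u | u ∈ Q ∧ u ^ q ∈ ctr Q ∧ ∀ g ∈ Q, comm' u g ∈ ctr Q}
  one_mem' := ⟨one_mem _, by simp, fun g _ => by simp [comm']⟩
  mul_mem' := by
    rintro u v ⟨hu, hu', hu''⟩ ⟨hv, hv', hv''⟩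
    have hc : ∀ g ∈ Q, comm' (u * v) g = comm' v g * comm' u g := by
      intro g hg
      calc comm' (u * v) g = u * comm' v g * u⁻¹ * comm' u g := by simp only [comm']; group
        _ = _ := by
            rw [((mem_ctr.1 (hv'' g hg)).2 u hu).eq, mul_inv_cancel_right]
    refine ⟨mul_mem hu hv, ?_, fun g hg => by rw [hc g hg]; exact mul_mem (hv'' g hg) (hu'' g hg)⟩
    have hcz := hv'' u hu
    rw [mul_pow_class_two (c := comm' v u) ((mem_ctr.1 hcz).2 u hu).symm
      ((mem_ctr.1 hcz).2 v hv).symm (by simp [comm', mul_assoc]) q]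
    exact mul_mem (mul_mem hu' hv') (pow_mem hcz _)
  inv_mem' := by
    rintro u ⟨hu, hu', hu''⟩
    refine ⟨inv_mem hu, by rw [inv_pow]; exact inv_mem hu', fun g hg => ?_⟩
    have hh := inv_mem (hu'' g hg)
    have : comm' u⁻¹ g = u⁻¹ * (comm' u g)⁻¹ * u := by simp only [comm']; group
    rw [this, mul_assoc, ← ((mem_ctr.1 hh).2 u hu).eq, inv_mul_cancel_left]
    exact hh

theorem mem_layer {Q : Subgroup G} {q : ℕ} {u : G} :
    u ∈ layer Q q ↔ u ∈ Q ∧ u ^ q ∈ ctr Q ∧ ∀ g ∈ Q, comm' u g ∈ ctr Q := Iff.rfl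

theorem layer_le (Q : Subgroup G) (q : ℕ) : layer Q q ≤ Q := fun _ h => h.1

theorem ctr_le_layer (Q : Subgroup G) (q : ℕ) : ctr Q ≤ layer Q q := fun z hz =>
  ⟨(mem_ctr.1 hz).1, pow_mem hz q, fun g hg => by
    have : comm' z g = 1 := by
      simp only [comm']
      rw [← ((mem_ctr.1 hz).2 g hg).eq]; group
    rw [this]; exact one_mem _⟩

/-- Commutators of layer elements with `Q` have order dividing `q`. -/
theorem comm'_pow {Q : Subgroup G} {q : ℕ} {u g : G} (hu : u ∈ layer Q q) (hg : g ∈ Q) :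
    comm' u g ^ q = 1 := by
  have hc := hu.2.2 g hg
  have key : ∀ n : ℕ, comm' (u ^ n) g = comm' u g ^ n := by
    intro n
    induction n with
    | zero => simp [comm']
    | succ n ih =>
      calc comm' (u ^ (n + 1)) g = u * comm' (u ^ n) g * u⁻¹ * comm' u g := by
            rw [pow_succ']; simp only [comm']; group
        _ = comm' u g ^ n * comm' u g := by
            rw [ih, ((mem_ctr.1 (pow_mem hc n)).2 u hu.1).eq, mul_inv_cancel_right]
        _ = _ := (pow_succ _ _).symm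
  rw [← key]
  simp only [comm']
  rw [← ((mem_ctr.1 hu.2.1).2 g hg).eq]
  group

/-- A nontrivial normal subgroup of `Q` modulo the centre meets the layer off the centre. -/
theorem exists_mem_layer [Finite G] {Q : Subgroup G} {q : ℕ} [Fact q.Prime] (hQ : IsPGroup q Q)
    {K : Subgroup G} (hKQ : K ≤ Q) (hKn : Q ≤ Subgroup.normalizer (K : Set G))
    (hctr : ctr Q ≤ K) {k : G} (hk : k ∈ K) (hk' : k ∉ ctr Q) :
    ∃ w ∈ K, w ∈ layer Q q ∧ w ∉ ctr Q := by
  have hqp : q.Prime := Fact.out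
  set C : Subgroup Q := Subgroup.center Q
  have hC : ∀ x : Q, x ∈ C ↔ (x : G) ∈ ctr Q := by
    intro x
    rw [Subgroup.mem_center_iff, mem_ctr]
    exact ⟨fun h => ⟨x.2, fun g hg => congrArg Subtype.val (h ⟨g, hg⟩)⟩,
      fun h g => Subtype.ext (h.2 g g.2).eq⟩
  set π := QuotientGroup.mk' C
  set K0 : Subgroup Q := K.subgroupOf Q
  have hK0n : K0.Normal := Subgroup.normal_subgroupOf_of_le_normalizer hKn
  set N := K0.map π
  have hNn : N.Normal := hK0n.map π (QuotientGroup.mk'_surjective C)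
  have hmem : ∀ x : Q, π x ∈ N → (x : G) ∈ K := by
    rintro x ⟨y, hy, hxy⟩
    have h1 : y⁻¹ * x ∈ C := QuotientGroup.eq.1 hxy
    have h2 : (y : G)⁻¹ * x ∈ K := hctr ((hC _).1 h1)
    have h3 := mul_mem (show (y : G) ∈ K from hy) h2
    rwa [mul_inv_cancel_left] at h3
  have hNne : N ≠ ⊥ := by
    intro hN
    have h1 : π ⟨k, hKQ hk⟩ ∈ N := Subgroup.mem_map_of_mem π hk
    rw [hN, Subgroup.mem_bot] at h1
    exact hk' ((hC _).1 ((QuotientGroup.eq_one_iff _).1 h1))
  have hP : IsPGroup q (Q ⧸ C) := hQ.to_quotient C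
  have hne := H80.pgroup_normal_inf_center_ne_bot hP N hNne
  obtain ⟨m, hm⟩ := IsPGroup.iff_card.1 (hP.to_subgroup (N ⊓ Subgroup.center (Q ⧸ C)))
  have hm0 : m ≠ 0 := by
    rintro rfl
    exact hne (Subgroup.card_eq_one.1 (by simpa using hm))
  obtain ⟨⟨w', hw'⟩, hw'o⟩ := exists_prime_orderOf_dvd_card' q
    (hm ▸ dvd_pow_self q hm0 : q ∣ Nat.card (N ⊓ Subgroup.center (Q ⧸ C) : Subgroup (Q ⧸ C)))
  rw [Subgroup.orderOf_mk] at hw'o
  obtain ⟨hw'N, hw'C⟩ := Subgroup.mem_inf.1 hw'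
  obtain ⟨w, rfl⟩ : ∃ w, π w = w' := QuotientGroup.mk'_surjective C w'
  refine ⟨w, hmem w hw'N, ⟨w.2, ?_, fun g hg => ?_⟩, fun h => ?_⟩
  · have h1 : π (w ^ q) = 1 := by rw [map_pow, ← hw'o, pow_orderOf_eq_one]
    simpa using (hC _).1 ((QuotientGroup.eq_one_iff _).1 h1)
  · have h1 : π (comm' w ⟨g, hg⟩) = 1 := by
      simp only [comm', map_mul, map_inv]
      rw [← Subgroup.mem_center_iff.1 hw'C (π ⟨g, hg⟩)]; group
    simpa [comm'] using (hC _).1 ((QuotientGroup.eq_one_iff _).1 h1)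
  · have h1 : π w = 1 := (QuotientGroup.eq_one_iff _).2 ((hC w).2 h)
    rw [h1, orderOf_one] at hw'o
    exact hqp.one_lt.ne hw'o

/-- Elements of `Q` normalising `Q` normalise the centre and the layer. -/
theorem normalizer_ctr (Q : Subgroup G) :
    Subgroup.normalizer (Q : Set G) ≤ Subgroup.normalizer (ctr Q : Set G) := by
  intro m hm
  have key : ∀ m ∈ Subgroup.normalizer (Q : Set G), ∀ z ∈ ctr Q, m * z * m⁻¹ ∈ ctr Q := by
    intro m hm z hz
    refine mem_ctr.2 ⟨(Subgroup.mem_normalizer_iff.1 hm z).1 (mem_ctr.1 hz).1, fun g hg => ?_⟩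
    have h1 := (mem_ctr.1 hz).2 _ ((Subgroup.mem_normalizer_iff''.1 hm g).1 hg)
    have h2 := (Commute.conj_iff m).2 h1
    have h3 : m * (m⁻¹ * g * m) * m⁻¹ = g := by group
    rwa [h3] at h2
  rw [Subgroup.mem_normalizer_iff]
  intro z
  refine ⟨key m hm z, fun h => ?_⟩
  have := key m⁻¹ (inv_mem hm) _ h
  simpa [mul_assoc] using this

theorem normalizer_layer (Q : Subgroup G) (q : ℕ) :
    Subgroup.normalizer (Q : Set G) ≤ Subgroup.normalizer (layer Q q : Set G) := by
  intro m hm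
  have key : ∀ m ∈ Subgroup.normalizer (Q : Set G), ∀ u ∈ layer Q q,
      m * u * m⁻¹ ∈ layer Q q := by
    intro m hm u hu
    refine ⟨(Subgroup.mem_normalizer_iff.1 hm u).1 hu.1, ?_, fun g hg => ?_⟩
    · rw [conj_pow]
      exact (Subgroup.mem_normalizer_iff.1 (normalizer_ctr Q hm) _).1 hu.2.1
    · have h1 := hu.2.2 _ ((Subgroup.mem_normalizer_iff''.1 hm g).1 hg)
      have h2 := (Subgroup.mem_normalizer_iff.1 (normalizer_ctr Q hm) _).1 h1
      convert h2 using 1
      simp only [comm']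
      group
  rw [Subgroup.mem_normalizer_iff]
  intro z
  refine ⟨key m hm z, fun h => ?_⟩
  have := key m⁻¹ (inv_mem hm) _ h
  simpa [mul_assoc] using this

end H25.Derange
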