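import Cfsg.Agent.H25.Derange.Basic
import Cfsg.Agent.H2.FPFSubgroup
import Cfsg.Agent.H2.UniqueSubgroup

/-!
# A covering subgroup whose elements outside `D` are fixed-point-free: conjugation action lemmas
-/

set_option autoImplicit false

namespace H25.Derange

variable {G : Type*} [Group G]

/-- fixed points of `B` on `R` under conjugation -/
def fixSub (R B : Subgroup G) : Subgroup G := R ⊓ Subgroup.centralizer (B : Set G)

/-- the conjugacy orbit of `v` under `M` -/
def orb (M : Subgroup G) (v : G) : Set G := (fun m => m * v * m⁻¹) '' (M : Set G)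

theorem mem_fixSub {R B : Subgroup G} {x : G} :
    x ∈ fixSub R B ↔ x ∈ R ∧ ∀ b ∈ B, b * x = x * b := by
  simp [fixSub, Subgroup.mem_centralizer_iff]

theorem mem_fixSub_zpowers {R : Subgroup G} {e x : G} :
    x ∈ fixSub R (Subgroup.zpowers e) ↔ x ∈ R ∧ Commute e x := by
  rw [mem_fixSub]
  refine and_congr_right fun _ => ⟨fun h => h e (Subgroup.mem_zpowers e), fun h b hb => ?_⟩
  obtain ⟨k, rfl⟩ := Subgroup.mem_zpowers_iff.1 hb
  exact h.zpow_left k

theorem orb_card [Finite G] (M : Subgroup G) (v : G) :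
    (orb M v).ncard * Nat.card (M ⊓ Subgroup.centralizer {v} : Subgroup G) = Nat.card M := by
  letI : MulAction M G := MulAction.compHom G ((MulAut.conj : G →* MulAut G).comp M.subtype)
  have h1 : orb M v = MulAction.orbit M v := by
    ext w
    constructor
    · rintro ⟨m, hm, rfl⟩
      exact ⟨⟨m, hm⟩, rfl⟩
    · rintro ⟨⟨m, hm⟩, rfl⟩
      exact ⟨m, hm, rfl⟩
  have h2 : MulAction.stabilizer M v = (M ⊓ Subgroup.centralizer {v}).subgroupOf M := by
    ext m
    rw [MulAction.mem_stabilizer_iff, Subgroup.mem_subgroupOf, Subgroup.mem_inf,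
      Subgroup.mem_centralizer_singleton_iff]
    change (m : G) * v * (m : G)⁻¹ = v ↔ _
    rw [mul_inv_eq_iff_eq_mul]
    exact ⟨fun h => ⟨m.2, h⟩, fun h => h.2⟩
  rw [h1, ← MulAction.index_stabilizer, h2,
    ← Nat.card_congr (Subgroup.subgroupOfEquivOfLe (inf_le_left : M ⊓ _ ≤ M)).toEquiv,
    Subgroup.index_mul_card]

/-- conjugation invariance of fixed point subgroups -/
theorem map_fixSub {R B : Subgroup G} {g : G} (hg : g ∈ Subgroup.normalizer (R : Set G)) :
    (fixSub R B).map (MulAut.conj g).toMonoidHom = fixSub R (B.map (MulAut.conj g).toMonoidHom) := by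
  ext x
  simp only [Subgroup.mem_map, MulEquiv.coe_toMonoidHom, MulAut.conj_apply, mem_fixSub]
  constructor
  · rintro ⟨y, ⟨hy, hcy⟩, rfl⟩
    refine ⟨(Subgroup.mem_normalizer_iff.1 hg y).1 hy, ?_⟩
    rintro b ⟨b', hb', rfl⟩
    calc g * b' * g⁻¹ * (g * y * g⁻¹) = g * (b' * y) * g⁻¹ := by group
      _ = g * (y * b') * g⁻¹ := by rw [hcy b' hb']
      _ = _ := by group
  · rintro ⟨hx, hcx⟩
    refine ⟨g⁻¹ * x * g, ⟨(Subgroup.mem_normalizer_iff.1 hg _).2 (by simpa [mul_assoc] using hx),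
      fun b hb => ?_⟩, by group⟩
    calc b * (g⁻¹ * x * g) = g⁻¹ * ((g * b * g⁻¹) * x) * g := by group
      _ = g⁻¹ * (x * (g * b * g⁻¹)) * g := by rw [hcx _ ⟨b, hb, rfl⟩]
      _ = _ := by group

theorem fixSub_sup_eq {R B C : Subgroup G} : fixSub R (B ⊔ C) = fixSub R B ⊓ fixSub R C := by
  ext x
  simp only [fixSub, Subgroup.mem_inf]
  constructor
  · rintro ⟨hx, hc⟩
    exact ⟨⟨hx, Subgroup.centralizer_le (le_sup_left : B ≤ B ⊔ C) hc⟩,
      ⟨hx, Subgroup.centralizer_le (le_sup_right : C ≤ B ⊔ C) hc⟩⟩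
  · rintro ⟨⟨hx, hb⟩, -, hc⟩
    refine ⟨hx, ?_⟩
    have : B ⊔ C ≤ Subgroup.centralizer {x} := by
      refine sup_le (fun b h => ?_) (fun c h => ?_) <;> rw [Subgroup.mem_centralizer_singleton_iff]
      · exact Subgroup.mem_centralizer_iff.1 hb b h
      · exact Subgroup.mem_centralizer_iff.1 hc c h
    rw [Subgroup.mem_centralizer_iff]
    exact fun y hy => Subgroup.mem_centralizer_singleton_iff.1 (this hy)

theorem block_bound {d b m : ℕ} (hb : 2 ≤ b) (hm : 2 ≤ m) (h : 2 * d ≤ b * (m - 1)) :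
    (d + 1) ^ 2 ≤ m ^ b := by
  obtain ⟨x, rfl⟩ : ∃ x, m = x + 1 := ⟨m - 1, by omega⟩
  simp only [Nat.add_sub_cancel] at h
  have key : ∀ k : ℕ, 2 ≤ k → (k * x + 2) ^ 2 ≤ 4 * (x + 1) ^ k := by
    intro k hk
    induction k, hk using Nat.le_induction with
    | base => exact le_of_eq (by ring)
    | succ k hk ih =>
      rw [pow_succ (x + 1) k]
      have h1 : ((k + 1) * x + 2) ^ 2 ≤ (k * x + 2) ^ 2 * (x + 1) := by
        obtain ⟨j, rfl⟩ : ∃ j, k = j + 2 := ⟨k - 2, by omega⟩
        ring_nf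
        nlinarith [Nat.zero_le (j * j * x ^ 3), Nat.zero_le (j * x ^ 2), Nat.zero_le (j * x ^ 3),
          Nat.zero_le (x ^ 3), Nat.zero_le (x ^ 2), Nat.zero_le (j * x), Nat.zero_le x]
      nlinarith
  have := key b hb
  nlinarith

/-- Hypotheses of the linear step. -/
structure Lin (R H D : Subgroup G) (r : ℕ) : Prop where
  rp : r.Prime
  normal : D.Normal
  nontriv : R ≠ ⊥
  comm : IsMulCommutative R
  exp : ∀ x ∈ R, x ^ r = 1
  norm : H ≤ Subgroup.normalizer (R : Set G)
  cop : ¬ r ∣ Nat.card H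
  faith : ∀ h ∈ H, (∀ x ∈ R, Commute h x) → h = 1
  fpf : ∀ h ∈ H, h ∉ D → ∀ x ∈ R, Commute h x → x = 1
  covers : Covers D H
  irred : ∀ M : Subgroup G, M ≤ H → Covers D M → ∀ S : Subgroup G, S ≤ R →
    M ≤ Subgroup.normalizer (S : Set G) → S = ⊥ ∨ S = R
  bad : Nat.card R < (D.index + 1) ^ 2

variable [Finite G] {R H D : Subgroup G} {r : ℕ} (L : Lin R H D r)
include L

theorem Lin.isPGroup : IsPGroup r R := fun x => ⟨1, Subtype.ext (by
  rw [pow_one]
  simpa using L.exp x x.2)⟩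

/-- Fixed subgroups with pairwise trivial intersection are independent. -/
theorem Lin.indep {ι : Type*} [Fintype ι] (B : ι → Subgroup G) (hB : ∀ i, B i ≤ H)
    (hc : ∀ i j, ∀ b ∈ B i, ∀ c ∈ B j, Commute b c)
    (hdis : ∀ i j, i ≠ j → fixSub R (B i) ⊓ fixSub R (B j) = ⊥) :
    ∏ i, Nat.card (fixSub R (B i)) ≤ Nat.card R := by
  classical
  have := Fact.mk L.rp
  have := L.comm
  letI : CommGroup R := H2.commGroupOfComm R
  have hR : ∀ i, ∀ b : B i, (b : G) ∈ Subgroup.normalizer (R : Set G) := fun i b =>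
    L.norm (hB i b.2)
  let act : ∀ i, B i → R → R := fun i b x => ⟨b * x * (b : G)⁻¹,
    (Subgroup.mem_normalizer_iff.1 (hR i b) x).1 x.2⟩
  have := fun i => Fintype.ofFinite (B i)
  let P : ∀ i, R → R := fun i x => ∏ b : B i, act i b x
  have hPmul : ∀ i x y, P i (x * y) = P i x * P i y := by
    intro i x y
    simp only [P, ← Finset.prod_mul_distrib]
    refine Finset.prod_congr rfl fun b _ => Subtype.ext ?_
    simp [act, mul_assoc]
  let Ph : ∀ i, R →* R := fun i => MonoidHom.mk' (P i) (hPmul i)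
  have hfixed : ∀ i (w : R), (w : G) ∈ fixSub R (B i) → P i w = w ^ Nat.card (B i) := by
    intro i w hw
    simp only [P, Nat.card_eq_fintype_card]
    rw [Finset.prod_eq_pow_card (b := w) (fun b _ => Subtype.ext (by
      show (b : G) * w * (b : G)⁻¹ = w
      rw [(mem_fixSub.1 hw).2 b b.2, mul_inv_cancel_right])), Finset.card_univ]
  have hkill : ∀ i j, i ≠ j → ∀ w : R, (w : G) ∈ fixSub R (B j) → P i w = 1 := by
    intro i j hij w hw
    have h1 : ((P i w : R) : G) ∈ fixSub R (B j) := by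
      let S : Subgroup R := (fixSub R (B j)).subgroupOf R
      show P i w ∈ S
      refine Subgroup.prod_mem _ fun b _ => ?_
      rw [Subgroup.mem_subgroupOf, mem_fixSub]
      refine ⟨(act i b w).2, fun c hcj => ?_⟩
      have hbc := hc i j b b.2 c hcj
      show c * ((b : G) * w * (b : G)⁻¹) = (b : G) * w * (b : G)⁻¹ * c
      calc c * ((b : G) * w * (b : G)⁻¹) = (b : G) * (c * w) * (b : G)⁻¹ := by
            rw [← mul_assoc, ← mul_assoc, ← hbc.eq]; group
        _ = (b : G) * (w * c) * (b : G)⁻¹ := by rw [(mem_fixSub.1 hw).2 c hcj]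
        _ = _ := by
            rw [mul_assoc _ _ ((b : G)⁻¹), mul_assoc _ c, ← hbc.inv_left.eq]; group
    have h2 : ((P i w : R) : G) ∈ fixSub R (B i) := by
      rw [mem_fixSub]
      refine ⟨(P i w).2, fun c hci => ?_⟩
      have hcR := hR i ⟨c, hci⟩
      let f : R →* R := MonoidHom.mk' (act i ⟨c, hci⟩)
        (fun x y => Subtype.ext (by simp [act, mul_assoc]))
      have h3 : f (P i w) = P i w := by
        simp only [P, map_prod]
        refine Fintype.prod_equiv (Equiv.mulLeft (⟨c, hci⟩ : B i)) _ _ fun b => Subtype.ext ?_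
        simp [f, act, mul_assoc]
      have h4 : c * ((P i w : R) : G) * c⁻¹ = ((P i w : R) : G) := congrArg Subtype.val h3
      exact mul_inv_eq_iff_eq_mul.1 h4
    have h5 : ((P i w : R) : G) ∈ fixSub R (B i) ⊓ fixSub R (B j) := ⟨h2, h1⟩
    rw [hdis i j hij, Subgroup.mem_bot] at h5
    exact Subtype.ext h5
  let inR : ∀ i, fixSub R (B i) → R := fun i w => ⟨w, (mem_fixSub.1 w.2).1⟩
  rw [← Nat.card_pi]
  refine Nat.card_le_card_of_injective (fun w => ∏ i, inR i (w i)) fun w w' hww => ?_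
  funext i
  have h := congrArg (Ph i) hww
  simp only [map_prod] at h
  rw [Finset.prod_eq_single i (fun j _ hj =>
      show Ph i (inR j (w j)) = 1 from hkill i j hj.symm _ (w j).2) (by simp),
    Finset.prod_eq_single i (fun j _ hj =>
      show Ph i (inR j (w' j)) = 1 from hkill i j hj.symm _ (w' j).2) (by simp)] at h
  change P i (inR i (w i)) = P i (inR i (w' i)) at h
  rw [hfixed i _ (w i).2, hfixed i _ (w' i).2] at h
  have hco : (Nat.card R).Coprime (Nat.card (B i)) := by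
    obtain ⟨k, hk⟩ := IsPGroup.iff_card.1 L.isPGroup
    rw [hk]
    refine (L.rp.coprime_iff_not_dvd.2 fun hd => L.cop (hd.trans ?_)).pow_left _
    exact Subgroup.card_dvd_of_le (hB i)
  have := (powCoprime hco).injective (show powCoprime hco (inR i (w i)) = powCoprime hco (inR i (w' i))
    from h)
  exact Subtype.ext (congrArg (fun x : R => (x : G)) this)

/-- A noncyclic abelian subgroup has a nontrivial element with fixed points. -/
theorem Lin.exists_fixed {A : Subgroup G} (hA : A ≤ H) (hAc : IsMulCommutative A)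
    (hnc : ¬ IsCyclic A) : ∃ a ∈ A, a ≠ 1 ∧ fixSub R (Subgroup.zpowers a) ≠ ⊥ := by
  by_contra hcon
  push Not at hcon
  have := L.comm
  refine hnc (H2.isCyclic_of_fpf_subgroup A R (hA.trans L.norm) L.nontriv (fun a ha ha1 => ?_)
    (Or.inl hAc))
  rw [eq_bot_iff]
  intro x hx
  rw [← hcon a ha ha1]
  exact mem_fixSub_zpowers.2 ⟨hx.1, (Subgroup.mem_centralizer_singleton_iff.1 hx.2).symm⟩

theorem Lin.stab_le {v : G} (hv : v ∈ R) (hv1 : v ≠ 1) :
    H ⊓ Subgroup.centralizer {v} ≤ D := by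
  intro h hh
  by_contra hD
  exact hv1 (L.fpf h hh.1 hD v hv (Subgroup.mem_centralizer_singleton_iff.1 hh.2))

/-- lower bound for orbit lengths -/
theorem Lin.orbit_ge {M U : Subgroup G} (hM : M ≤ H) (hcov : Covers D M) (hU : U ≤ M ⊓ D)
    {v : G} (hv : v ∈ R) (hv1 : v ≠ 1) :
    D.index * Nat.card U ≤
      (orb M v).ncard * Nat.card (U ⊓ Subgroup.centralizer {v} : Subgroup G) := by
  have h1 := orb_card M v
  have h2 := hcov.card_eq
  have h3 := orb_card (M ⊓ D) v
  have h4 := orb_card U v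
  have hst : (M ⊓ D) ⊓ Subgroup.centralizer {v} = M ⊓ Subgroup.centralizer {v} :=
    le_antisymm (inf_le_inf_right _ inf_le_left)
      (le_inf (le_inf inf_le_left ((inf_le_inf_right _ hM).trans (L.stab_le hv hv1))) inf_le_right)
  rw [hst] at h3
  have hle : (orb U v).ncard ≤ (orb (M ⊓ D) v).ncard :=
    Set.ncard_le_ncard (Set.image_mono (fun x hx => hU hx)) (Set.toFinite _)
  set s := Nat.card (M ⊓ Subgroup.centralizer {v} : Subgroup G)
  set u := Nat.card (U ⊓ Subgroup.centralizer {v} : Subgroup G)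
  have hs : 0 < s := Nat.card_pos
  refine Nat.le_of_mul_le_mul_right ?_ hs
  calc D.index * Nat.card U * s = D.index * ((orb U v).ncard * u) * s := by rw [h4]
    _ ≤ D.index * ((orb (M ⊓ D) v).ncard * u) * s := by gcongr
    _ = D.index * ((orb (M ⊓ D) v).ncard * s) * u := by ring
    _ = _ := by rw [h3, ← h2, ← h1]; ring

/-- Abelian subgroups of `M ⊓ D` of prime power order normalised by `M` are cyclic. -/
theorem Lin.isCyclic_of_normal {M A : Subgroup G} (hM : M ≤ H) (hcov : Covers D M)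
    (hAle : A ≤ M ⊓ D) (hMA : M ≤ Subgroup.normalizer (A : Set G)) {q : ℕ} [Fact q.Prime]
    (hq : IsPGroup q A) (hAc : IsMulCommutative A) : IsCyclic A := by
  classical
  by_contra hnc
  have hqp : q.Prime := Fact.out
  letI := H2.commGroupOfComm A
  -- the elements of order dividing q
  let A1 : Subgroup G := ((powMonoidHom q : A →* A).ker).map A.subtype
  have hA1 : ∀ a, a ∈ A1 ↔ a ∈ A ∧ a ^ q = 1 := by
    intro a
    constructor
    · rintro ⟨x, hx, rfl⟩
      exact ⟨x.2, by simpa using congrArg Subtype.val (MonoidHom.mem_ker.1 hx)⟩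
    · rintro ⟨ha, haq⟩
      exact ⟨⟨a, ha⟩, MonoidHom.mem_ker.2 (Subtype.ext (by simpa using haq)), rfl⟩
  have hA1A : A1 ≤ A := fun a ha => ((hA1 a).1 ha).1
  have hA1H : A1 ≤ H := hA1A.trans (hAle.trans (inf_le_left.trans hM))
  have hA1c : IsMulCommutative A1 := ⟨⟨fun a b => Subtype.ext (by
    have := hAc.is_comm.comm (⟨a, hA1A a.2⟩ : A) ⟨b, hA1A b.2⟩
    simpa using congrArg Subtype.val this)⟩⟩
  have hA1card : q < Nat.card A1 := by
    by_contra hle
    push Not at hle
    refine hnc (H2.isCyclic_of_pow_ker_le (p := q) hq (le_of_eq_of_le ?_ hle))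
    exact Nat.card_congr (((powMonoidHom q : A →* A).ker).equivMapOfInjective _
      A.subtype_injective).toEquiv
  have hA1nc : ¬ IsCyclic A1 := by
    intro hc
    obtain ⟨g, hg⟩ := hc.exists_generator
    have h1 : orderOf g = Nat.card A1 := orderOf_eq_card_of_forall_mem_zpowers hg
    have h2 : orderOf g ∣ q := orderOf_dvd_of_pow_eq_one (Subtype.ext (by
      simpa using ((hA1 g).1 g.2).2))
    have := Nat.le_of_dvd hqp.pos h2
    omega
  have hMA1 : M ≤ Subgroup.normalizer (A1 : Set G) := by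
    intro m hm
    rw [Subgroup.mem_normalizer_iff]
    intro a
    have h := Subgroup.mem_normalizer_iff.1 (hMA hm) a
    rw [hA1, hA1, ← h, conj_pow, conj_eq_one_iff]
  -- B maximal with fixed points
  obtain ⟨B, ⟨hBle, hBfix⟩, hBmax⟩ := Set.Finite.exists_maximalFor (fun B : Subgroup G => Nat.card B)
    {B : Subgroup G | B ≤ A1 ∧ fixSub R B ≠ ⊥} (Set.toFinite _)
    ⟨⊥, bot_le, by
      rw [show fixSub R ⊥ = R from inf_eq_left.2 fun x _ => by simp [Subgroup.mem_centralizer_iff]]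
      exact L.nontriv⟩
  have hmax : ∀ B', B' ≤ A1 → fixSub R B' ≠ ⊥ → Nat.card B' ≤ Nat.card B := fun B' h1 h2 => by
    by_contra hlt
    exact absurd (hBmax (j := B') ⟨h1, h2⟩ (le_of_lt (not_le.1 hlt))) hlt
  have hBne : B ≠ ⊥ := by
    obtain ⟨a, ha, ha1, hafix⟩ := L.exists_fixed hA1H hA1c hA1nc
    intro hB
    have h := hmax (Subgroup.zpowers a) (Subgroup.zpowers_le.2 ha) hafix
    rw [hB, Subgroup.card_bot, Nat.card_zpowers] at h
    have := orderOf_pos a
    exact ha1 (orderOf_eq_one_iff.1 (by omega))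
  -- a point not fixed by all of `A1`
  have hnotA1 : ∀ v ∈ R, v ≠ 1 → ¬ A1 ≤ Subgroup.centralizer {v} := by
    intro v hv hv1 hle
    have hS : M ≤ Subgroup.normalizer (fixSub R A1 : Set G) := by
      intro m hm
      rw [Subgroup.mem_normalizer_iff_map_conj_eq]
      change (fixSub R A1).map (MulAut.conj m).toMonoidHom = fixSub R A1
      rw [map_fixSub (L.norm (hM hm))]
      exact congrArg (fixSub R) (Subgroup.mem_normalizer_iff_map_conj_eq.1 (hMA1 hm))
    rcases L.irred M hM hcov _ inf_le_left hS with h | h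
    · exact hv1 (Subgroup.mem_bot.1 (h ▸ mem_fixSub.2 ⟨hv,
        fun b hb => Subgroup.mem_centralizer_singleton_iff.1 (hle hb)⟩))
    · have : A1 = ⊥ := (Subgroup.eq_bot_iff_forall _).2 fun a ha => L.faith a (hA1H ha)
        fun x hx => (mem_fixSub.1 (h.ge hx)).2 a ha
      rw [this, Subgroup.card_bot] at hA1card
      have := hqp.one_lt
      omega
  let 𝔅 : Set (Subgroup G) := (fun m => B.map (MulAut.conj m).toMonoidHom) '' (M : Set G)
  have h𝔅fin : 𝔅.Finite := Set.toFinite _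
  have := h𝔅fin.fintype
  have h𝔅 : ∀ C ∈ 𝔅, C ≤ A1 ∧ Nat.card C = Nat.card B ∧
      Nat.card (fixSub R C) = Nat.card (fixSub R B) := by
    rintro C ⟨m, hm, rfl⟩
    refine ⟨?_, Nat.card_congr (B.equivMapOfInjective _ (MulEquiv.injective _)).symm.toEquiv, ?_⟩
    · rintro _ ⟨x, hx, rfl⟩
      exact (Subgroup.mem_normalizer_iff.1 (hMA1 hm) x).1 (hBle hx)
    · rw [← map_fixSub (L.norm (hM hm))]
      exact Nat.card_congr ((fixSub R B).equivMapOfInjective _ (MulEquiv.injective _)).symm.toEquiv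
  set mm := Nat.card (fixSub R B)
  have hmm : 2 ≤ mm := by
    have : Nat.card (fixSub R B) ≠ 1 := fun h => hBfix (Subgroup.eq_bot_of_card_eq _ h)
    have : 0 < mm := Nat.card_pos
    omega
  have hind := L.indep (ι := 𝔅) (fun C => (C : Subgroup G)) (fun C => (h𝔅 C C.2).1.trans hA1H)
    (fun (C C' : 𝔅) a ha b hb => by
      have := hA1c.is_comm.comm ⟨a, (h𝔅 C C.2).1 ha⟩ ⟨b, (h𝔅 C' C'.2).1 hb⟩
      exact congrArg Subtype.val this)
    (fun (C C' : 𝔅) hne => by
      rw [← fixSub_sup_eq]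
      by_contra hfix
      have h1 := hmax _ (sup_le (h𝔅 C C.2).1 (h𝔅 C' C'.2).1) hfix
      have h2 : (C : Subgroup G) = (C : Subgroup G) ⊔ (C' : Subgroup G) := Subgroup.eq_of_le_of_card_ge le_sup_left
        (by rw [(h𝔅 C C.2).2.1]; exact h1)
      have h3 : (C' : Subgroup G) ≤ C := h2 ▸ le_sup_right
      exact hne (Subtype.ext (Subgroup.eq_of_le_of_card_ge h3
        (by rw [(h𝔅 C C.2).2.1, (h𝔅 C' C'.2).2.1])).symm))
  rw [Finset.prod_congr rfl (fun (C : 𝔅) _ => (h𝔅 C C.2).2.2), Finset.prod_const, Finset.card_univ,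
    ← Nat.card_eq_fintype_card, Nat.card_coe_set_eq] at hind
  have hb2 : 2 ≤ 𝔅.ncard := by
    have hpos : 0 < 𝔅.ncard := (Set.ncard_pos h𝔅fin).2 ⟨_, 1, M.one_mem, rfl⟩
    by_contra hlt
    obtain ⟨C0, hC0⟩ := Set.ncard_eq_one.1 (show 𝔅.ncard = 1 by omega)
    have hfix : ∀ m ∈ M, B.map (MulAut.conj m).toMonoidHom = B := by
      intro m hm
      have h1 : B.map (MulAut.conj m).toMonoidHom ∈ 𝔅 := ⟨m, hm, rfl⟩
      have h2 : B ∈ 𝔅 := ⟨1, M.one_mem, by ext x; simp [Subgroup.mem_map]⟩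
      rw [hC0, Set.mem_singleton_iff] at h1 h2
      rw [h1, h2]
    have hS : M ≤ Subgroup.normalizer (fixSub R B : Set G) := fun m hm => by
      rw [Subgroup.mem_normalizer_iff_map_conj_eq]
      change (fixSub R B).map (MulAut.conj m).toMonoidHom = fixSub R B
      rw [map_fixSub (L.norm (hM hm)), hfix m hm]
    rcases L.irred M hM hcov _ inf_le_left hS with h | h
    · exact hBfix h
    · exact hBne ((Subgroup.eq_bot_iff_forall _).2 fun a ha => L.faith a (hA1H (hBle ha))
        fun x hx => (mem_fixSub.1 (h.ge hx)).2 a ha)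
  obtain ⟨⟨v, hv⟩, hv1'⟩ : ∃ v : fixSub R B, v ≠ 1 := by
    have := (Subgroup.nontrivial_iff_ne_bot _).2 hBfix
    exact exists_ne 1
  have hv1 : v ≠ 1 := fun h => hv1' (Subtype.ext h)
  have hvR : v ∈ R := (mem_fixSub.1 hv).1
  have hlow : 2 * D.index ≤ (orb M v).ncard := by
    have h := L.orbit_ge hM hcov (hA1A.trans hAle) hvR hv1
    have h2 : (A1 ⊓ Subgroup.centralizer {v} : Subgroup G) < A1 :=
      lt_of_le_of_ne inf_le_left fun h => hnotA1 v hvR hv1 (inf_eq_left.1 h)
    have h3 : 2 * Nat.card (A1 ⊓ Subgroup.centralizer {v} : Subgroup G) ≤ Nat.card A1 := by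
      obtain ⟨k, hk⟩ := Subgroup.card_dvd_of_le h2.le
      rcases k with _ | _ | k
      · have : 0 < Nat.card A1 := Nat.card_pos
        omega
      · exact absurd (Subgroup.eq_of_le_of_card_ge h2.le (by omega)) h2.ne
      · rw [hk]; nlinarith
    have hu : 0 < Nat.card (A1 ⊓ Subgroup.centralizer {v} : Subgroup G) := Nat.card_pos
    refine Nat.le_of_mul_le_mul_right ?_ hu
    nlinarith
  have hup : (orb M v).ncard ≤ 𝔅.ncard * (mm - 1) := by
    let W : Finset G := h𝔅fin.toFinset.biUnion fun C =>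
      ((fixSub R C : Set G) \ {1}).toFinite.toFinset
    have hsub : orb M v ⊆ (W : Set G) := by
      rintro _ ⟨m, hm, rfl⟩
      simp only [W, Finset.coe_biUnion, Set.Finite.coe_toFinset, Set.mem_iUnion]
      refine ⟨B.map (MulAut.conj m).toMonoidHom, ⟨m, hm, rfl⟩, ?_, fun h => hv1 ?_⟩
      · rw [SetLike.mem_coe, ← map_fixSub (L.norm (hM hm))]
        exact Subgroup.mem_map_of_mem _ hv
      · simpa using h
    refine (Set.ncard_le_ncard hsub W.finite_toSet).trans ?_
    rw [Set.ncard_coe_finset, Set.ncard_eq_toFinset_card _ h𝔅fin]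
    refine Finset.card_biUnion_le_card_mul _ _ _ fun C hC => ?_
    rw [← Set.ncard_eq_toFinset_card,
      Set.ncard_sdiff_singleton_of_mem (fixSub R C).one_mem, ← Nat.card_coe_set_eq]
    exact le_of_eq (congrArg (· - 1) (h𝔅 C (by simpa using hC)).2.2)
  have := block_bound hb2 hmm (hlow.trans hup)
  have := L.bad
  omega

end H25.Derange
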