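import Cfsg.Agent.H25.Derange.Regular
import Cfsg.Agent.H25.Derange.Char

/-!
# The index bound
-/

set_option autoImplicit false

namespace H25.Derange

open MulAction

variable {G Ω : Type*} [Group G] [MulAction G Ω] [Finite G] [Finite Ω]

/-- the numerical part: only `d = 2`, `e = 3`, `n = 7` survives -/
theorem exceptional_arith {d e n : ℕ} (hd : 2 ≤ d) (he : 2 ≤ e) (hn : 2 ≤ n)
    (hbad : n < (d + 1) ^ 2) (hdvd : d * e ∣ n - 1) (hb1 : n + e ≤ e * e + 1)
    (hb2 : n + e = e * e + 1 → (e - 2) ^ 2 + 1 ≤ e) : d = 2 ∧ e = 3 ∧ n = 7 := by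
  obtain ⟨k, hk⟩ := hdvd
  have hk1 : 1 ≤ k := Nat.one_le_iff_ne_zero.2 fun h => by
    rw [h, mul_zero] at hk
    omega
  have hn' : n = d * e * k + 1 := by omega
  subst hn'
  have h1 : d * k < e := by
    by_contra hle
    push Not at hle
    nlinarith [Nat.mul_le_mul_left e hle]
  have h2 : d < e := lt_of_le_of_lt (Nat.le_mul_of_pos_right d hk1) h1
  have h3 : e * k < d + 2 := by
    by_contra hle
    push Not at hle
    nlinarith [Nat.mul_le_mul_left d hle]
  have hk' : k = 1 := by
    by_contra hk'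
    have h4 : e * 2 ≤ e * k := Nat.mul_le_mul_left e (by omega)
    omega
  subst hk'
  have he' : e = d + 1 := by omega
  subst he'
  obtain ⟨x, rfl⟩ : ∃ x, d = x + 2 := ⟨d - 2, by omega⟩
  have hx := hb2 (by ring)
  rw [show x + 2 + 1 - 2 = x + 1 by omega] at hx
  have hx0 : x = 0 := by nlinarith
  subst hx0
  exact ⟨rfl, rfl, rfl⟩

variable {D : Subgroup G} {a : Ω} {r : ℕ} {R : Subgroup G}

theorem Reg.false (E : Reg D a r R) : False := by
  classical
  have := Fact.mk E.rp
  have S := E.setup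
  set H := Subgroup.normalizer (R : Set G) ⊓ stabilizer G a with hHdef
  have hcomm := E.lin.comm
  set N : Subgroup G := Subgroup.normalClosure (R : Set G) with hNdef
  have hNn : N.Normal := Subgroup.normalClosure_normal
  have hRN : R ≤ N := Subgroup.subset_normalClosure
  have hND : N ≤ D := by
    have := S.normal
    exact Subgroup.normalClosure_le_normal E.leD
  set R' : Subgroup N := R.subgroupOf N with hR'def
  set K : Subgroup N := stabilizer N a with hKdef
  have hR'card : Nat.card R' = Nat.card Ω := by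
    rw [hR'def, Nat.card_congr (Subgroup.subgroupOfEquivOfLe hRN).toEquiv, E.card_eq]
  have htr : IsPretransitive N Ω := ⟨fun y z => by
    obtain ⟨x, hx, rfl⟩ := E.reach y
    obtain ⟨x', hx', rfl⟩ := E.reach z
    exact ⟨⟨x' * x⁻¹, mul_mem (hRN hx') (inv_mem (hRN hx))⟩, by
      show (x' * x⁻¹) • x • a = x' • a
      rw [← mul_smul, inv_mul_cancel_right]⟩⟩
  have hKcard : Nat.card K * Nat.card Ω = Nat.card N := by
    have h := (stabilizer N a).card_mul_index
    rwa [MulAction.index_stabilizer_of_transitive N a] at h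
  have hcompl : Subgroup.IsComplement' K R' := by
    refine Subgroup.isComplement'_of_disjoint_and_mul_eq_univ ?_ ?_
    · rw [Subgroup.disjoint_def]
      intro x hxK hxR
      exact Subtype.ext (E.free _ hxR hxK)
    · refine Set.eq_univ_of_forall fun g => ?_
      obtain ⟨x, hx, hxa⟩ := E.reach ((g : G)⁻¹ • a)
      refine Set.mem_mul.2 ⟨g * ⟨x, hRN hx⟩, ?_, (⟨x, hRN hx⟩ : N)⁻¹, inv_mem hx,
        mul_inv_cancel_right _ _⟩
      show ((g : G) * x) • a = a
      rw [mul_smul, hxa, smul_inv_smul]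
  have hcomm' : IsMulCommutative R' := ⟨⟨fun x y => Subtype.ext (Subtype.ext
    (congrArg Subtype.val (hcomm.is_comm.comm (⟨(x : N), x.2⟩ : R) ⟨(y : N), y.2⟩) :
      ((x : N) : G) * (y : N) = (y : N) * (x : N)))⟩⟩
  have hcent : ∀ x ∈ R', x ≠ 1 → Subgroup.centralizer {x} ≤ R' := by
    intro x hx hx1 g hg
    have h1 : ((g : N) : G) ∈ D ⊓ Subgroup.centralizer {((x : N) : G)} :=
      Subgroup.mem_inf.2 ⟨hND g.2, Subgroup.mem_centralizer_singleton_iff.2
        (congrArg Subtype.val (Subgroup.mem_centralizer_singleton_iff.1 hg))⟩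
    rw [E.centralizer_inf (x := ((x : N) : G)) hx (fun h => hx1 (Subtype.ext h))] at h1
    exact h1
  -- `R'` as a Sylow subgroup of `N`
  have hidx : ¬ r ∣ R'.index := by
    intro h
    have h1 := R'.card_mul_index
    rw [hR'card] at h1
    have h2 : Nat.card Ω * R'.index ∣ Nat.card Ω * Nat.card (stabilizer G a ⊓ D : Subgroup G) := by
      rw [h1, ← S.card_D a]
      exact Subgroup.card_dvd_of_le hND
    exact E.cop (h.trans (Nat.dvd_of_mul_dvd_mul_left (lt_of_lt_of_le two_pos S.two_le) h2))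
  set P : Sylow r N := (E.isPGroup.comap_of_injective N.subtype N.subtype_injective :
    IsPGroup r R').toSylow hidx
  have hgen : Subgroup.normalClosure (R' : Set N) = ⊤ := by
    set W := Subgroup.normalClosure (R' : Set N)
    rw [eq_top_iff]
    intro g _
    have hle : N ≤ W.map N.subtype := by
      refine Subgroup.closure_le _ |>.2 ?_
      intro x hx
      obtain ⟨y, hy, hc⟩ := Group.mem_conjugatesOfSet_iff.1 hx
      obtain ⟨c, hc⟩ := isConj_iff.1 hc
      subst hc
      obtain ⟨k, hk, hkm⟩ := frattini (M := (⊤ : Subgroup G)) (K := N) (by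
        intro z _
        rw [Subgroup.normalizer_eq_top (H := N)]
        trivial) P (Subgroup.mem_top c)
      have hP : ((P : Subgroup N).map N.subtype : Subgroup G) = R := by
        show R'.map N.subtype = R
        rw [hR'def, Subgroup.subgroupOf_map_subtype, inf_eq_left.2 hRN]
      rw [hP] at hkm
      have hy' : k⁻¹ * c * y * (k⁻¹ * c)⁻¹ ∈ R := (Subgroup.mem_normalizer_iff.1 hkm y).1 hy
      refine ⟨(⟨k, hk⟩ : N) * ⟨_, hRN hy'⟩ * (⟨k, hk⟩ : N)⁻¹, ?_, ?_⟩
      · exact (Subgroup.normalClosure_normal).conj_mem _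
          (Subgroup.subset_normalClosure (show (⟨_, hRN hy'⟩ : N) ∈ (R' : Set N) from hy')) _
      · simp [mul_assoc]
    obtain ⟨w, hw, hwg⟩ := hle g.2
    rwa [← N.subtype_injective hwg]
  -- the normaliser inside the stabiliser
  set E' : Subgroup G := N ⊓ H with hE'def
  have hEmap : (Subgroup.normalizer (R' : Set N) ⊓ K).map N.subtype = E' := by
    ext g
    constructor
    · rintro ⟨x, hx, rfl⟩
      obtain ⟨hxR, hxK⟩ := Subgroup.mem_inf.1 hx
      refine Subgroup.mem_inf.2 ⟨x.2, Subgroup.mem_inf.2 ⟨?_, hxK⟩⟩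
      rw [Subgroup.mem_normalizer_iff] at hxR ⊢
      intro z
      constructor
      · exact fun hz => (hxR ⟨z, hRN hz⟩).1 hz
      · intro hz
        have hzN : z ∈ N := by
          have h3 := mul_mem (mul_mem (inv_mem x.2) (hRN hz)) x.2
          simpa [mul_assoc] using h3
        exact (hxR ⟨z, hzN⟩).2 hz
    · intro hg
      obtain ⟨hgN, hgR, hga⟩ := hg
      refine ⟨⟨g, hgN⟩, Subgroup.mem_inf.2 ⟨?_, hga⟩, rfl⟩
      rw [Subgroup.mem_normalizer_iff]
      exact fun z => Subgroup.mem_normalizer_iff.1 hgR z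
  have hEcard : Nat.card (Subgroup.normalizer (R' : Set N) ⊓ K : Subgroup N) = Nat.card E' := by
    rw [← hEmap]
    exact Nat.card_congr ((Subgroup.normalizer (R' : Set N) ⊓ K).equivMapOfInjective _
      N.subtype_injective).toEquiv
  have he : 2 ≤ Nat.card E' := by
    by_contra hlt
    have hbot : E' = ⊥ := Subgroup.eq_bot_of_card_le _ (by omega)
    have hNR : N = R := E.eq_of_normalizer_le hND hRN fun g hg hgR x hx => by
      obtain ⟨z, hz, hza⟩ := E.reach (g • a)
      have h1 : z⁻¹ * g ∈ E' := Subgroup.mem_inf.2 ⟨mul_mem (inv_mem (hRN hz)) hg,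
        Subgroup.mem_inf.2 ⟨mul_mem (inv_mem (Subgroup.le_normalizer hz)) hgR, by
          rw [mem_stabilizer_iff, mul_smul, ← hza, inv_smul_smul]⟩⟩
      rw [hbot, Subgroup.mem_bot] at h1
      rw [← inv_mul_eq_one.1 h1]
      exact congrArg Subtype.val (hcomm.is_comm.comm (⟨z, hz⟩ : R) ⟨x, hx⟩)
    refine E.ne_bot (le_bot_iff.1 (hRN.trans ?_))
    rw [S.nonaffine N hNn (by rw [hNR]; exact hcomm)]
  -- an element of the covering subgroup outside `D`
  obtain ⟨h, hhH, hhD⟩ : ∃ h ∈ H, h ∉ D := by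
    have hlt := E.two_le_index
    obtain ⟨g, hg⟩ : ∃ g : G, g ∉ D := by
      by_contra hcon
      push Not at hcon
      rw [(Subgroup.eq_top_iff' D).2 hcon, Subgroup.index_top] at hlt
      omega
    obtain ⟨m, hm, hgm⟩ := E.covers g
    refine ⟨m, hm, fun hmD => hg ?_⟩
    have h2 := mul_mem hgm (inv_mem hmD)
    rw [mul_inv_cancel_right] at h2
    exact inv_mem_iff.1 h2
  have hha : h • a = a := hhH.2
  obtain ⟨p, hp⟩ : ∃ p : Ω, p ≠ a := by
    have : Nontrivial Ω := Finite.one_lt_card_iff_nontrivial.1 S.two_le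
    exact exists_ne a
  have hhpa : h • p ≠ a := fun h' => hp (smul_left_cancel h (h'.trans hha.symm))
  have hkey : ∀ k : N, k ∈ K → (k : G) • p ≠ h • p := by
    intro k hk hkp
    have hka : (k : G) • a = a := hk
    have hD : (k : G)⁻¹ * h ∉ D := fun hh => hhD (by
      have h2 := mul_mem (hND k.2) hh
      rwa [mul_inv_cancel_left] at h2)
    exact hp (S.uniq _ hD p a (by rw [mul_smul, ← hkp, inv_smul_smul])
      (by rw [mul_smul, hha, inv_smul_eq_iff.2 hka.symm]))
  obtain ⟨x, hxR, hxa⟩ := E.reach p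
  obtain ⟨y, hyR, hya⟩ := E.reach (h • p)
  have hrank : ∃ x' ∉ K, ∃ y' ∉ K, ∀ k₁ ∈ K, ∀ k₂ ∈ K, k₁ * x' * k₂ ≠ y' := by
    refine ⟨⟨x, hRN hxR⟩, fun hx' => hp (hxa.symm.trans hx'), ⟨y, hRN hyR⟩,
      fun hy' => hhpa (hya.symm.trans hy'), fun k₁ hk₁ k₂ hk₂ heq => hkey k₁ hk₁ ?_⟩
    have h1 : ((k₁ : G) * x * (k₂ : G)) • a = y • a :=
      congrArg (fun q : N => (q : G) • a) heq
    rw [mul_smul, mul_smul, show (k₂ : G) • a = a from hk₂, hxa, hya] at h1
    exact h1
  have hmain := exceptional_bound R' K hcompl hcomm' hcent hgen (hEcard ▸ he) hrank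
  simp only [hEcard, hR'card] at hmain
  obtain ⟨hb1, hb2⟩ := hmain
  -- divisibility
  have hE'H : E' ≤ H ⊓ D := le_inf inf_le_right (inf_le_left.trans hND)
  have hdvd : D.index * Nat.card E' ∣ Nat.card Ω - 1 := by
    refine dvd_trans ?_ E.card_dvd
    rw [E.covers.card_eq]
    exact Nat.mul_dvd_mul_left _ (Subgroup.card_dvd_of_le hE'H)
  obtain ⟨hd2, he3, hn7⟩ :=
    exceptional_arith E.two_le_index he S.two_le E.bad hdvd hb1 hb2
  -- the case of degree seven
  set O : Set Ω := MulAction.orbit K p with hOdef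
  have hOinv : ∀ k : K, ∀ ω : Ω, (k : N) • ω ∈ O ↔ ω ∈ O := by
    intro k ω
    constructor
    · rintro ⟨j, hj⟩
      exact ⟨k⁻¹ * j, by
        show (k⁻¹ * j) • p = ω
        rw [mul_smul, show j • p = k • ω from hj, inv_smul_smul]⟩
    · rintro ⟨j, rfl⟩
      exact ⟨k * j, mul_smul k j p⟩
  have haO : a ∉ O := by
    rintro ⟨j, hj⟩
    exact hp (smul_left_cancel j ((show j • p = a from hj).trans (j.2 : j • a = a).symm))
  have hhpO : h • p ∉ O := by
    rintro ⟨j, hj⟩
    exact hkey j j.2 hj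
  have hfixa : ∀ k : K, ((k : N) : G) • a = a := fun k => k.2
  have hOdvd : Nat.card E' ∣ O.ncard := by
    have h := H25.Derange.index_dvd_ncard (⊥ : Subgroup E') O
      (fun m ω hω => by
        have hm : (m : G) ∈ (Subgroup.normalizer (R' : Set N) ⊓ K).map N.subtype := by
          rw [hEmap]; exact m.2
        obtain ⟨m', hm', hmm⟩ := hm
        have hω' := (hOinv ⟨m', (Subgroup.mem_inf.1 hm').2⟩ ω).2 hω
        change (m : G) • ω ∈ O
        rw [← hmm]
        exact hω')
      (fun ω hω m hm => by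
        rw [Subgroup.mem_bot]
        by_contra hm1
        obtain ⟨z, hz, rfl⟩ := E.reach ω
        refine haO ?_
        have hcz : Commute (m : G) z := (E.commute_iff (Subgroup.mem_inf.1 m.2).2 hz).2 hm
        rw [E.semiregular (Subgroup.mem_inf.1 m.2).2 (fun h' => hm1 (Subtype.ext h')) hz hcz,
          one_smul] at hω
        exact hω)
    rwa [Subgroup.index_bot] at h
  have hO3 : O.ncard = 3 := by
    have h1 : O ⊆ ({a, h • p} : Set Ω)ᶜ := by
      intro ω hω hω'
      rcases hω' with rfl | rfl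
      · exact haO hω
      · exact hhpO hω
    have h2 := Set.ncard_le_ncard h1 (Set.toFinite _)
    rw [Set.ncard_compl, Set.ncard_pair hhpa.symm, hn7] at h2
    have h3 : 0 < O.ncard := (Set.ncard_pos (Set.toFinite _)).2 ⟨p, mem_orbit_self p⟩
    rw [he3] at hOdvd
    omega
  set O₂ : Set Ω := (insert a O)ᶜ with hO₂def
  have hO₂3 : O₂.ncard = 3 := by
    rw [hO₂def, Set.ncard_compl, Set.ncard_insert_of_notMem haO (Set.toFinite _), hO3, hn7]
  have hO₂inv : ∀ k : K, ∀ ω : Ω, (k : N) • ω ∈ O₂ ↔ ω ∈ O₂ := by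
    intro k ω
    have h1 : (k : N) • ω = a ↔ ω = a := by
      constructor
      · intro h'
        exact smul_left_cancel (k : N) (h'.trans (k.2 : (k : N) • a = a).symm)
      · rintro rfl
        exact k.2
    simp only [hO₂def, Set.mem_compl_iff, Set.mem_insert_iff, h1, hOinv k ω]
  let f : K →* Equiv.Perm O × Equiv.Perm O₂ := MonoidHom.mk'
    (fun k => ((MulAction.toPerm (k : N)).subtypePerm fun ω => hOinv k ω,
      (MulAction.toPerm (k : N)).subtypePerm fun ω => hO₂inv k ω))
    (fun k l => Prod.ext (Equiv.ext fun ω => Subtype.ext (mul_smul (k : N) (l : N) (ω : Ω)))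
      (Equiv.ext fun ω => Subtype.ext (mul_smul (k : N) (l : N) (ω : Ω))))
  have hf : Function.Injective f := by
    intro k l hkl
    have hall : ∀ ω : Ω, (k : N) • ω = (l : N) • ω := by
      intro ω
      by_cases hωa : ω = a
      · rw [hωa]
        exact (k.2 : (k : N) • a = a).trans (l.2 : (l : N) • a = a).symm
      by_cases hω : ω ∈ O
      · have := congrArg (fun q => ((Prod.fst q) ⟨ω, hω⟩ : Ω)) hkl
        exact this
      · have hω₂ : ω ∈ O₂ := by simp [hO₂def, hωa, hω]
        have := congrArg (fun q => ((Prod.snd q) ⟨ω, hω₂⟩ : Ω)) hkl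
        exact this
    refine Subtype.ext (Subtype.ext (inv_mul_eq_one.1 (S.faith _ fun ω => ?_)).symm)
    show (((l : N) : G)⁻¹ * ((k : N) : G)) • ω = ω
    rw [mul_smul, inv_smul_eq_iff]
    exact hall ω
  have hK36 : Nat.card K ∣ 36 := by
    have h1 := Subgroup.card_dvd_of_injective f hf
    rwa [Nat.card_prod, Nat.card_perm, Nat.card_perm, Nat.card_coe_set_eq, Nat.card_coe_set_eq,
      hO3, hO₂3] at h1
  -- count Sylow subgroups
  have hr7 : r = 7 := by
    obtain ⟨i, hi, hri⟩ := E.isPow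
    rw [hn7] at hri
    exact (Nat.prime_dvd_prime_iff_eq E.rp (by norm_num)).1
      (hri ▸ dvd_pow_self r (by omega))
  subst hr7
  set m := Nat.card (Sylow 7 N)
  have hm : m = (Subgroup.normalizer (R' : Set N)).index := P.card_eq_index_normalizer
  have hm7 : m ≡ 1 [MOD 7] := card_sylow_modEq_one 7 N
  have h21 : 21 ∣ Nat.card (Subgroup.normalizer (R' : Set N)) := by
    have h1 : 7 ∣ Nat.card (Subgroup.normalizer (R' : Set N)) := by
      have := Subgroup.card_dvd_of_le (Subgroup.le_normalizer (H := R'))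
      rwa [hR'card, hn7] at this
    have h2 : 3 ∣ Nat.card (Subgroup.normalizer (R' : Set N)) := by
      have := Subgroup.card_dvd_of_le
        (inf_le_left : Subgroup.normalizer (R' : Set N) ⊓ K ≤ Subgroup.normalizer (R' : Set N))
      rwa [hEcard, he3] at this
    exact (show Nat.Coprime 7 3 by norm_num).mul_dvd_of_dvd_of_dvd h1 h2
  have hm12 : m ∣ 12 := by
    have h1 : m * 21 ∣ Nat.card N := by
      rw [hm, mul_comm, ← (Subgroup.normalizer (R' : Set N)).card_mul_index]
      exact Nat.mul_dvd_mul_right h21 _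
    have h2 : Nat.card N ∣ 12 * 21 := by
      rw [← hKcard, hn7, show 12 * 21 = 36 * 7 by norm_num]
      exact Nat.mul_dvd_mul_right hK36 7
    exact Nat.dvd_of_mul_dvd_mul_right (by norm_num) (h1.trans h2)
  have hm1 : m = 1 := by
    have hle := Nat.le_of_dvd (by norm_num) hm12
    have hmod : m % 7 = 1 := hm7
    obtain ⟨c, hc⟩ := hm12
    rcases (show m = 1 ∨ m = 8 by omega) with h' | h'
    · exact h'
    · rw [h'] at hc; omega
  have hnormal : Subgroup.normalizer (R' : Set N) = ⊤ := Subgroup.index_eq_one.1 (hm ▸ hm1)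
  have hR'n : R'.Normal := Subgroup.normalizer_eq_top_iff.1 hnormal
  have htop : R' = ⊤ := top_unique (hgen ▸ Subgroup.normalClosure_le_normal (le_refl (R' : Set N)))
  have hK1 : K = ⊥ := Subgroup.isComplement'_top_right.1 (htop ▸ hcompl)
  have := Subgroup.card_dvd_of_le
    (inf_le_right : Subgroup.normalizer (R' : Set N) ⊓ K ≤ K)
  rw [hEcard, he3, hK1, Subgroup.card_bot] at this
  omega

/-- The index of `D` plus one is at most the square root of the degree. -/
theorem Setup.index_bound {D : Subgroup G} (S : Setup D Ω) (hd : 2 ≤ D.index) :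
    (D.index + 1) ^ 2 ≤ Nat.card Ω := by
  by_contra hbad
  obtain ⟨a⟩ : Nonempty Ω := Finite.card_pos_iff.1 (lt_of_lt_of_le two_pos S.two_le)
  obtain ⟨r, R, E⟩ := S.exists_reg (not_le.1 hbad) hd a
  exact E.false

end H25.Derange
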