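import Cfsg.Agent.H25.Derange.Basic

/-!
# Reduction to prime power degree with a regular Sylow subgroup
-/

set_option autoImplicit false

namespace H25.Derange

open MulAction

variable {G Ω : Type*} [Group G] [MulAction G Ω]

/-- The standing hypotheses: `D` is a transitive normal subgroup outside which every element
fixes exactly one point, and the action is faithful, non-affine, with transitive normal subgroups. -/
structure Setup (D : Subgroup G) (Ω : Type*) [MulAction G Ω] : Prop where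
  normal : D.Normal
  trans : ∀ x y : Ω, ∃ g ∈ D, g • x = y
  uniq : Uniq D Ω
  fix : ∀ g : G, g ∉ D → ∃ x : Ω, g • x = x
  faith : ∀ g : G, (∀ x : Ω, g • x = x) → g = 1
  normal_trans : ∀ N : Subgroup G, N.Normal → N ≠ ⊥ → ∀ x y : Ω, ∃ g ∈ N, g • x = y
  nonaffine : ∀ N : Subgroup G, N.Normal → IsMulCommutative ↥N → N = ⊥
  two_le : 2 ≤ Nat.card Ω

theorem le_of_sq_bound {d n m g i : ℕ} (hm : m ^ i = n) (hd : d ∣ m ^ g - 1) (hm2 : 2 ≤ m)
    (hg : 1 ≤ g) (hgi : 2 * g ≤ i) : (d + 1) ^ 2 ≤ n := by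
  have h1 : 2 ≤ m ^ g := le_trans hm2 (Nat.le_self_pow (by omega) m)
  have h2 : d ≤ m ^ g - 1 := Nat.le_of_dvd (by omega) hd
  calc (d + 1) ^ 2 ≤ (m ^ g) ^ 2 := Nat.pow_le_pow_left (by omega) 2
    _ = m ^ (2 * g) := by rw [← pow_mul, mul_comm]
    _ ≤ m ^ i := Nat.pow_le_pow_right (by omega) hgi
    _ = n := hm

/-- two divisibilities give one by the gcd exponent, hence the bound -/
theorem sq_bound_of_pow_dvd {d r i j : ℕ} (hr : 2 ≤ r) (hj : 1 ≤ j) (hji : j < i)
    (h1 : d ∣ r ^ i - 1) (h2 : d ∣ r ^ j - 1) : (d + 1) ^ 2 ≤ r ^ i := by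
  have h := Nat.dvd_gcd h1 h2
  rw [Nat.pow_sub_one_gcd_pow_sub_one] at h
  refine le_of_sq_bound rfl h hr (Nat.gcd_pos_of_pos_right _ (by omega)) ?_
  obtain ⟨k, hk⟩ := Nat.gcd_dvd_left i j
  have hle : Nat.gcd i j ≤ j := Nat.gcd_le_right _ (by omega)
  rcases k with _ | _ | k
  · omega
  · omega
  · nlinarith [Nat.zero_le (Nat.gcd i j * k)]

variable [Finite G] [Finite Ω] {D : Subgroup G} (S : Setup D Ω)
include S

theorem Setup.covers_stab (a : Ω) : Covers D (stabilizer G a) := by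
  intro g
  obtain ⟨y, hy, hya⟩ := S.trans a (g⁻¹ • a)
  refine ⟨g * y, ?_, by simpa using hy⟩
  simp [mem_stabilizer_iff, mul_smul, hya]

theorem Setup.card_D (a : Ω) :
    Nat.card D = Nat.card Ω * Nat.card (stabilizer G a ⊓ D : Subgroup G) := by
  have : IsPretransitive D Ω := ⟨fun x y => by
    obtain ⟨g, hg, h⟩ := S.trans x y
    exact ⟨⟨g, hg⟩, h⟩⟩
  have h1 := MulAction.index_stabilizer_of_transitive D a
  have h2 := (stabilizer D a).card_mul_index
  have h3 : stabilizer D a = (stabilizer G a ⊓ D).subgroupOf D := by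
    ext m
    simp [Subgroup.mem_subgroupOf, Subgroup.smul_def]
  rw [h1, h3, Nat.card_congr (Subgroup.subgroupOfEquivOfLe inf_le_right).toEquiv] at h2
  rw [← h2, mul_comm]

theorem Setup.card_stab_inf (a b : Ω) :
    Nat.card (stabilizer G a ⊓ D : Subgroup G) = Nat.card (stabilizer G b ⊓ D : Subgroup G) := by
  have h1 := S.card_D a
  have h2 := S.card_D b
  have : 0 < Nat.card Ω := lt_of_lt_of_le two_pos S.two_le
  exact Nat.eq_of_mul_eq_mul_left this (h1.symm.trans h2)

theorem Setup.index_dvd_pred : D.index ∣ Nat.card Ω - 1 := by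
  obtain ⟨a⟩ : Nonempty Ω := Finite.card_pos_iff.1 (lt_of_lt_of_le two_pos S.two_le)
  have h := (S.covers_stab a).index_dvd_ncard S.uniq a (fun m hm => hm) ({a}ᶜ)
    (by simp) (fun m hm x hx => fun h => hx (by
      have : m • x = m • a := h.trans (mem_stabilizer_iff.1 hm).symm
      exact smul_left_cancel m this))
  rwa [Set.ncard_compl, Set.ncard_singleton] at h

theorem Setup.exists_orbit_pow (hd : 2 ≤ D.index) (r : ℕ) [Fact r.Prime]
    (hr : r ∣ Nat.card Ω) (a : Ω) :
    ∃ e, 1 ≤ e ∧ r ^ e ∣ Nat.card Ω ∧ D.index ∣ r ^ e - 1 ∧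
      (r ^ e = Nat.card Ω → ¬ r ∣ Nat.card (stabilizer G a ⊓ D : Subgroup G)) := by
  classical
  have := S.normal
  have hrp : r.Prime := Fact.out
  set n := Nat.card Ω
  set Da : Subgroup G := stabilizer G a ⊓ D
  obtain ⟨P⟩ : Nonempty (Sylow r Da) := inferInstance
  set R0 : Subgroup G := (P : Subgroup Da).map Da.subtype
  have hR0le : R0 ≤ Da := Subgroup.map_subtype_le _
  have hR0p : IsPGroup r R0 := P.2.map _
  have hR0card : Nat.card R0 = Nat.card (P : Subgroup Da) :=
    Nat.card_congr ((P : Subgroup Da).equivMapOfInjective _ Da.subtype_injective).symm.toEquiv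
  have hR0r : ¬ r ∣ (Nat.card Da) / Nat.card R0 := by
    have h := (P : Subgroup Da).card_mul_index
    rw [hR0card, ← h, Nat.mul_div_cancel_left _ Nat.card_pos]
    exact P.not_dvd_index
  set N : Subgroup G := Subgroup.normalizer (R0 : Set G)
  have hcovN : ∀ g : G, ∃ m ∈ N ⊓ stabilizer G a, g⁻¹ * m ∈ D := by
    intro g
    obtain ⟨m, hm, hgm⟩ := S.covers_stab a g
    obtain ⟨k, hk, hkm⟩ := frattini (M := stabilizer G a) (K := Da) (by
      intro x hx
      rw [Subgroup.mem_normalizer_iff]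
      intro y
      simp only [Da, Subgroup.mem_inf]
      constructor
      · rintro ⟨h1, h2⟩
        exact ⟨mul_mem (mul_mem hx h1) (inv_mem hx), S.normal.conj_mem _ h2 x⟩
      · rintro ⟨h1, h2⟩
        refine ⟨?_, ?_⟩
        · have := mul_mem (mul_mem (inv_mem hx) h1) hx
          simpa [mul_assoc] using this
        · have := S.normal.conj_mem _ h2 x⁻¹
          simpa [mul_assoc] using this) P hm
    refine ⟨k⁻¹ * m, Subgroup.mem_inf.2 ⟨hkm, mul_mem (inv_mem (Subgroup.mem_inf.1 hk).1) hm⟩, ?_⟩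
    have : g⁻¹ * (k⁻¹ * m) = (g⁻¹ * k⁻¹ * g) * (g⁻¹ * m) := by group
    rw [this]
    refine mul_mem ?_ hgm
    simpa [mul_assoc] using S.normal.conj_mem _ (inv_mem (Subgroup.mem_inf.1 hk).2) g⁻¹
  set N0 : Subgroup G := N ⊓ D
  have hR0N0 : R0 ≤ N0 := le_inf Subgroup.le_normalizer (hR0le.trans inf_le_right)
  obtain ⟨U', hU'⟩ := (hR0p.comap_of_injective N0.subtype N0.subtype_injective :
    IsPGroup r (R0.comap N0.subtype)).exists_le_sylow
  set U : Subgroup G := (U' : Subgroup N0).map N0.subtype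
  have hUle : U ≤ N0 := Subgroup.map_subtype_le _
  have hR0U : R0 ≤ U := fun x hx => ⟨⟨x, hR0N0 hx⟩, hU' hx, rfl⟩
  have hUp : IsPGroup r U := U'.2.map _
  set N' : Subgroup G := N ⊓ Subgroup.normalizer (U : Set G)
  have hcov' : Covers D N' := by
    intro g
    obtain ⟨m, hm, hgm⟩ := hcovN g
    obtain ⟨k, hk, hkm⟩ := frattini (M := N) (K := N0) (by
      intro x hx
      rw [Subgroup.mem_normalizer_iff]
      intro y
      simp only [N0, Subgroup.mem_inf]
      constructor
      · rintro ⟨h1, h2⟩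
        exact ⟨mul_mem (mul_mem hx h1) (inv_mem hx), S.normal.conj_mem _ h2 x⟩
      · rintro ⟨h1, h2⟩
        refine ⟨?_, ?_⟩
        · have := mul_mem (mul_mem (inv_mem hx) h1) hx
          simpa [mul_assoc] using this
        · have := S.normal.conj_mem _ h2 x⁻¹
          simpa [mul_assoc] using this) U' hm.1
    refine ⟨k⁻¹ * m, Subgroup.mem_inf.2 ⟨mul_mem (inv_mem (Subgroup.mem_inf.1 hk).1) hm.1, hkm⟩, ?_⟩
    have : g⁻¹ * (k⁻¹ * m) = (g⁻¹ * k⁻¹ * g) * (g⁻¹ * m) := by group
    rw [this]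
    refine mul_mem ?_ hgm
    simpa [mul_assoc] using S.normal.conj_mem _ (inv_mem (Subgroup.mem_inf.1 hk).2) g⁻¹
  obtain ⟨b, hbcov, -⟩ := exists_covering_stabilizer hcov' S.uniq S.fix hd
  obtain ⟨b₀, hb₀cov, hb₀⟩ :=
    exists_covering_stabilizer (N := N) (fun g => (hcovN g).imp fun _ h => ⟨h.1.1, h.2⟩)
      S.uniq S.fix hd
  -- `b` and `a` lie in the orbit of `b₀` under `N`
  obtain ⟨g, hg⟩ : ∃ g : G, g ∉ D := by
    by_contra hcon
    push Not at hcon
    rw [(Subgroup.eq_top_iff' D).2 hcon, Subgroup.index_top] at hd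
    omega
  have hmema : a ∈ MulAction.orbit N b₀ := by
    obtain ⟨m, hm, hgm⟩ := hcovN g
    refine hb₀ m hm.1 (fun hmD => hg ?_) a hm.2
    have := mul_mem hgm (inv_mem hmD)
    simpa using this
  have hmemb : b ∈ MulAction.orbit N b₀ := by
    obtain ⟨m, hm, hgm⟩ := hbcov g
    refine hb₀ m hm.1.1 (fun hmD => hg ?_) b hm.2
    have := mul_mem hgm (inv_mem hmD)
    simpa using this
  obtain ⟨c, rfl⟩ : b ∈ MulAction.orbit N a := by
    rw [MulAction.orbit_eq_iff.2 hmema]; exact hmemb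
  set b : Ω := c • a
  have hR0b : R0 ≤ stabilizer G b := by
    intro x hx
    have h1 : (c : G)⁻¹ * x * (c : G) ∈ R0 := (Subgroup.mem_normalizer_iff''.1 c.2 x).1 hx
    have h2 : ((c : G)⁻¹ * x * (c : G)) • a = a := (hR0le h1).1
    rw [mem_stabilizer_iff]
    show x • (c : G) • a = (c : G) • a
    rw [mul_smul, mul_smul, inv_smul_eq_iff] at h2
    exact h2
  -- the orbit of `b` under `U`
  set O : Set Ω := MulAction.orbit U b
  have hUb : U ⊓ stabilizer G b = R0 := by
    refine (Subgroup.eq_of_le_of_card_ge (le_inf hR0U hR0b) ?_).symm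
    have hp : IsPGroup r (U ⊓ stabilizer G b : Subgroup G) := hUp.to_le inf_le_left
    obtain ⟨u, hu⟩ := IsPGroup.iff_card.1 hp
    obtain ⟨w, hw⟩ := IsPGroup.iff_card.1 hR0p
    have hdvd : r ^ u ∣ Nat.card Da := by
      rw [← hu, S.card_stab_inf a b]
      exact Subgroup.card_dvd_of_le (le_inf inf_le_right
        (inf_le_left.trans (hUle.trans inf_le_right)))
    rw [hu, hw]
    refine Nat.pow_le_pow_right hrp.one_lt.le ?_
    by_contra hlt
    obtain ⟨k, hk⟩ := Subgroup.card_dvd_of_le hR0le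
    rw [hw] at hR0r hk
    rw [hk, Nat.mul_div_cancel_left _ (pow_pos hrp.pos w)] at hR0r
    rw [hk, show u = w + 1 + (u - w - 1) by omega, pow_add, pow_succ] at hdvd
    exact hR0r ((Dvd.intro _ rfl).trans
      (Nat.dvd_of_mul_dvd_mul_left (pow_pos hrp.pos w) (by rwa [mul_assoc] at hdvd)))
  have hOcard : O.ncard * Nat.card R0 = Nat.card U := by
    have h3 : stabilizer U b = (U ⊓ stabilizer G b).subgroupOf U := by
      ext m
      simp [Subgroup.mem_subgroupOf, Subgroup.smul_def]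
    rw [show O.ncard = (stabilizer U b).index from (MulAction.index_stabilizer U b).symm, h3, hUb,
      ← Nat.card_congr (Subgroup.subgroupOfEquivOfLe hR0U).toEquiv, Subgroup.index_mul_card]
  obtain ⟨u, hu⟩ := IsPGroup.iff_card.1 hUp
  obtain ⟨w, hw⟩ := IsPGroup.iff_card.1 hR0p
  have hwu : w ≤ u := by
    have := Subgroup.card_le_of_le hR0U
    rw [hu, hw] at this
    exact (Nat.pow_le_pow_iff_right hrp.one_lt).1 this
  have hO : O.ncard = r ^ (u - w) := by
    rw [hu, hw, show u = u - w + w by omega, pow_add] at hOcard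
    simpa using Nat.eq_of_mul_eq_mul_right (pow_pos hrp.pos w) hOcard
  -- positivity
  have hune : w ≠ u := by
    intro heq
    have hUR : U = R0 := (Subgroup.eq_of_le_of_card_ge hR0U (by rw [hu, hw, heq])).symm
    -- a Sylow subgroup of `D` above `R0`
    have hR0D : R0 ≤ D := hR0le.trans inf_le_right
    obtain ⟨Q, hQ⟩ := (hR0p.comap_of_injective D.subtype D.subtype_injective :
      IsPGroup r (R0.comap D.subtype)).exists_le_sylow
    have hne : R0.comap D.subtype ≠ (Q : Subgroup D) := by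
      intro h
      have hcard : Nat.card R0 = Nat.card (Q : Subgroup D) := by
        rw [← h, ← Subgroup.subgroupOf,
          Nat.card_congr (Subgroup.subgroupOfEquivOfLe hR0D).toEquiv]
      have hi := Q.not_dvd_index
      apply hi
      have h1 := (Q : Subgroup D).card_mul_index
      rw [← hcard, S.card_D a] at h1
      obtain ⟨k, hk⟩ := Subgroup.card_dvd_of_le hR0le
      rw [hk] at h1
      have : (Q : Subgroup D).index = n * k := by
        have hpos : 0 < Nat.card R0 := Nat.card_pos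
        apply Nat.eq_of_mul_eq_mul_left hpos
        rw [h1]; ring
      rw [this]
      exact hr.mul_right k
    have hlt : R0.comap D.subtype < (Q : Subgroup D) := lt_of_le_of_ne hQ hne
    set A := R0.comap D.subtype
    have hA : A.subgroupOf (Q : Subgroup D) < ⊤ := by
      refine lt_top_iff_ne_top.2 fun h => ?_
      exact not_le_of_gt hlt (Subgroup.subgroupOf_eq_top.1 h)
    have : Group.IsNilpotent (Q : Subgroup D) := Q.2.isNilpotent
    have hgrow := (Group.normalizerCondition_of_isNilpotent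
      (G := (Q : Subgroup D))) _ hA
    obtain ⟨x, hxN, hxA⟩ := SetLike.exists_of_lt hgrow
    -- x ∈ N0 \ R0, a p-element normalising R0
    have hxR : ((x : D) : G) ∈ N0 := by
      refine Subgroup.mem_inf.2 ⟨?_, (x : D).2⟩
      rw [Subgroup.mem_normalizer_iff] at hxN ⊢
      intro y
      constructor
      · intro hy
        have hyQ : (⟨y, hR0D hy⟩ : D) ∈ (Q : Subgroup D) := hQ hy
        exact (hxN ⟨⟨y, hR0D hy⟩, hyQ⟩).1 hy
      · intro hy
        have hyQ : (x : D)⁻¹ * (⟨_, hR0D hy⟩ : D) * (x : D) ∈ (Q : Subgroup D) :=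
          mul_mem (mul_mem (inv_mem x.2) (hQ hy)) x.2
        have h := (hxN ⟨_, hyQ⟩).2 (by
          simpa [Subgroup.mem_subgroupOf, A, mul_assoc] using hy)
        simpa [Subgroup.mem_subgroupOf, A, mul_assoc] using h
    have hxU : ((x : D) : G) ∉ U := by
      rw [hUR]
      exact hxA
    -- the r-group generated by U and x inside N0
    have hbig : IsPGroup r (U ⊔ Subgroup.zpowers ((x : D) : G) : Subgroup G) := by
      refine IsPGroup.to_sup_of_normal_left' hUp ?_ ?_
      · intro z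
        obtain ⟨k, hk⟩ := Subgroup.mem_zpowers_iff.1 z.2
        obtain ⟨j, hj⟩ := Q.2 x
        refine ⟨j, Subtype.ext ?_⟩
        have hj' : ((x : D) : G) ^ r ^ j = 1 := by
          have := congrArg (fun q : (Q : Subgroup D) => ((q : D) : G)) hj
          simpa using this
        push_cast
        rw [← hk, ← zpow_natCast, ← zpow_mul, mul_comm, zpow_mul, zpow_natCast, hj', one_zpow]
      · rw [hUR]
        exact Subgroup.zpowers_le.2 hxR.1
    have hle : U ⊔ Subgroup.zpowers ((x : D) : G) ≤ N0 :=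
      sup_le hUle (Subgroup.zpowers_le.2 hxR)
    have hmax := U'.is_maximal' (Q := (U ⊔ Subgroup.zpowers ((x : D) : G)).subgroupOf N0)
      (hbig.comap_of_injective N0.subtype N0.subtype_injective)
      (fun z hz => Subgroup.mem_sup_left ⟨z, hz, rfl⟩)
    apply hxU
    refine ⟨⟨((x : D) : G), hxR⟩, ?_, rfl⟩
    rw [← hmax]
    exact Subgroup.mem_sup_right (Subgroup.mem_zpowers _)
  -- M invariant set
  set M : Subgroup G := N' ⊓ stabilizer G b
  have hinvO : ∀ m ∈ M, ∀ x ∈ O \ {b}, m • x ∈ O \ {b} := by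
    intro m hm x hx
    obtain ⟨⟨y, hy⟩, hxe⟩ := hx.1
    refine ⟨⟨⟨m * y * m⁻¹, (Subgroup.mem_normalizer_iff.1 hm.1.2 y).1 hy⟩, ?_⟩, fun h => hx.2 ?_⟩
    · subst hxe
      show (m * y * m⁻¹) • b = m • (y • b)
      rw [mul_smul, mul_smul, inv_smul_eq_iff.2 (mem_stabilizer_iff.1 hm.2).symm]
    · exact smul_left_cancel m (h.trans (mem_stabilizer_iff.1 hm.2).symm)
  have hdvd := hbcov.index_dvd_ncard S.uniq b (fun m hm => hm.2) (O \ {b}) (by simp) hinvO
  rw [Set.ncard_sdiff_singleton_of_mem (MulAction.mem_orbit_self b : b ∈ O), hO] at hdvd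
  refine ⟨u - w, by omega, ?_, hdvd, fun hfull => ?_⟩
  · have h1 : r ^ u ∣ n * Nat.card Da := by
      rw [← hu, ← S.card_D a]
      exact Subgroup.card_dvd_of_le (hUle.trans inf_le_right)
    obtain ⟨k, hk⟩ := Subgroup.card_dvd_of_le hR0le
    rw [hw] at hR0r hk
    rw [hk, Nat.mul_div_cancel_left _ (pow_pos hrp.pos w)] at hR0r
    rw [hk, show u = w + (u - w) by omega, pow_add, mul_left_comm] at h1
    exact ((hrp.coprime_iff_not_dvd.2 hR0r).pow_left _).dvd_of_dvd_mul_right
      (Nat.dvd_of_mul_dvd_mul_left (pow_pos hrp.pos w) h1)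
  · intro hdiv
    have hOuniv : O = Set.univ := Set.eq_of_subset_of_ncard_le (Set.subset_univ _)
      (by rw [Set.ncard_univ, hO, hfull])
    have hR0fix : ∀ x ∈ R0, ∀ z : Ω, x • z = z := by
      intro x hx z
      obtain ⟨⟨y, hy⟩, rfl⟩ : z ∈ O := by rw [hOuniv]; trivial
      have hyN : y ∈ N := (hUle hy).1
      have h1 : y⁻¹ * x * y ∈ R0 := (Subgroup.mem_normalizer_iff''.1 hyN x).1 hx
      have h2 : (y⁻¹ * x * y) • b = b := hR0b h1
      rw [mul_smul, mul_smul, inv_smul_eq_iff] at h2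
      exact h2
    have hR0bot : R0 = ⊥ := (Subgroup.eq_bot_iff_forall _).2 fun x hx => S.faith x (hR0fix x hx)
    apply hR0r
    rw [hR0bot, Subgroup.card_bot, Nat.div_one]
    exact hdiv

/-- Either the bound holds, or the degree is a prime power `r ^ i` and point stabilisers in `D`
have order prime to `r`. -/
theorem Setup.reduce (hbad : Nat.card Ω < (D.index + 1) ^ 2) (hd : 2 ≤ D.index) (a : Ω) :
    ∃ r i : ℕ, r.Prime ∧ 1 ≤ i ∧ Nat.card Ω = r ^ i ∧
      ¬ r ∣ Nat.card (stabilizer G a ⊓ D : Subgroup G) := by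
  classical
  set n := Nat.card Ω
  have hn := S.two_le
  set r := n.minFac
  have hr : r.Prime := Nat.minFac_prime (by omega)
  have := Fact.mk hr
  obtain ⟨e, he, hen, hed, hfull⟩ := S.exists_orbit_pow hd r (Nat.minFac_dvd n) a
  by_cases hpp : ∀ s : ℕ, s.Prime → s ∣ n → s = r
  · obtain ⟨i, hi⟩ : ∃ i, n = r ^ i :=
      ⟨n.primeFactorsList.length, Nat.eq_prime_pow_of_unique_prime_dvd (by omega)
        fun {s} hs hsn => hpp s hs hsn⟩
    refine ⟨r, i, hr, ?_, hi, ?_⟩
    · rcases i with _ | i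
      · simp at hi; omega
      · omega
    · by_cases hei : e = i
      · exact hfull (by rw [hei, ← hi])
      · exfalso
        have hle : e ≤ i := (Nat.pow_dvd_pow_iff_le_right hr.one_lt).1 (hi ▸ hen)
        have := sq_bound_of_pow_dvd (d := D.index) hr.two_le he (lt_of_le_of_ne hle hei)
          (hi ▸ S.index_dvd_pred) hed
        omega
  · exfalso
    push Not at hpp
    obtain ⟨s, hs, hsn, hsr⟩ := hpp
    have := Fact.mk hs
    obtain ⟨f, hf, hfn, hfd, -⟩ := S.exists_orbit_pow hd s hsn a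
    have hco : Nat.Coprime (r ^ e) (s ^ f) :=
      ((Nat.coprime_primes hr hs).2 (Ne.symm hsr)).pow e f
    have hprod : r ^ e * s ^ f ≤ n := Nat.le_of_dvd (by omega) (hco.mul_dvd_of_dvd_of_dvd hen hfn)
    have h1 : 2 ≤ r ^ e := le_trans hr.two_le (Nat.le_self_pow (by omega) r)
    have h2 : 2 ≤ s ^ f := le_trans hs.two_le (Nat.le_self_pow (by omega) s)
    have h3 : D.index + 1 ≤ r ^ e := by have := Nat.le_of_dvd (by omega) hed; omega
    have h4 : D.index + 1 ≤ s ^ f := by have := Nat.le_of_dvd (by omega) hfd; omega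
    have := Nat.mul_le_mul h3 h4
    rw [pow_two] at hbad
    omega

end H25.Derange
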