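import Cfsg.Agent.H25.Derange.SemiReg
import Cfsg.Agent.H25.Derange.Class2

/-!
# No element of the covering group has fixed points
-/

set_option autoImplicit false

namespace H25.Derange

variable {G : Type*} [Group G] [Finite G] {R H D : Subgroup G} {r : ℕ} (L : Lin R H D r)
include L

omit L [Finite G] in
theorem arith_three {m : ℕ} (hm : 2 ≤ m) : (3 * m - 1) ^ 2 ≤ 4 * m ^ 3 := by
  obtain ⟨k, rfl⟩ := Nat.exists_eq_add_of_le hm
  rw [show 3 * (2 + k) - 1 = 3 * k + 5 by omega]
  nlinarith [Nat.zero_le (k ^ 3)]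

/-- The counting inequality turned into a contradiction: `q = 2` version. -/
theorem Lin.false_of_le {q m : ℕ} (hq : 2 ≤ q) (hm : m ^ q ≤ Nat.card R) (hm2 : 2 ≤ m)
    (h : D.index ≤ m - 1) : False := by
  have h1 : m ^ 2 ≤ m ^ q := Nat.pow_le_pow_right (by omega) hq
  have h2 : (D.index + 1) ^ 2 ≤ m ^ 2 := Nat.pow_le_pow_left (by omega) 2
  have := L.bad
  omega

/-- The counting inequality turned into a contradiction: odd `q` version. -/
theorem Lin.false_of_three {q m : ℕ} (hq : 3 ≤ q) (hm : m ^ q ≤ Nat.card R) (hm2 : 2 ≤ m)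
    (h : 2 * D.index ≤ 3 * (m - 1)) : False := by
  have h1 : m ^ 3 ≤ m ^ q := Nat.pow_le_pow_right (by omega) hq
  have h2 : (2 * (D.index + 1)) ^ 2 ≤ (3 * m - 1) ^ 2 := Nat.pow_le_pow_left (by omega) 2
  have h3 := arith_three hm2
  have h4 := L.bad
  rw [mul_pow] at h2
  omega

/-- the elements of `W` of order dividing `q` off `Z` -/
def offSet (W Z : Subgroup G) (q : ℕ) : Set G := {e | e ∈ W ∧ e ^ q = 1 ∧ e ∉ Z}

omit L [Finite G] in
theorem offSet_inv {M W Z : Subgroup G} {q : ℕ} (hW : M ≤ Subgroup.normalizer (W : Set G))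
    (hZ : M ≤ Subgroup.normalizer (Z : Set G)) :
    ∀ m ∈ M, ∀ e ∈ offSet W Z q, m * e * m⁻¹ ∈ offSet W Z q := by
  rintro m hm e ⟨he, heq, heZ⟩
  refine ⟨(Subgroup.mem_normalizer_iff.1 (hW hm) e).1 he, ?_, fun h => heZ ?_⟩
  · rw [conj_pow, heq, mul_one, mul_inv_cancel]
  · exact (Subgroup.mem_normalizer_iff.1 (hZ hm) e).2 h

omit L in
theorem card_pow_two_ge_four {C : Subgroup G} (hC : IsPGroup 2 C) (h : 3 ≤ Nat.card C) :
    4 ≤ Nat.card C := by
  obtain ⟨k, hk⟩ := IsPGroup.iff_card.1 hC
  rw [hk] at h ⊢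
  rcases k with _ | _ | k
  · omega
  · omega
  · calc 4 = 2 ^ 2 := rfl
      _ ≤ 2 ^ (k + 2) := Nat.pow_le_pow_right (by omega) (by omega)

/-- The inductive step: a `q`-group normalised by a covering subgroup contains no element of
order `q` with fixed points. -/
theorem Lin.no_fixer {q : ℕ} [hq : Fact q.Prime] {M : Subgroup G} (hM : M ≤ H)
    (hcov : Covers D M) : ∀ Q : Subgroup G, IsPGroup q Q → Q ≤ M ⊓ D →
      M ≤ Subgroup.normalizer (Q : Set G) →
      ∀ e ∈ Q, orderOf e = q → fixSub R (Subgroup.zpowers e) ≠ ⊥ → False := by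
  intro Q
  induction hcard : Nat.card Q using Nat.strong_induction_on generalizing Q with
  | _ N ih =>
  intro hQ hQle hMQ e heQ heo hefix
  have hqp : q.Prime := hq.out
  have hQH : Q ≤ H := hQle.trans (inf_le_left.trans hM)
  have hQM : Q ≤ M := hQle.trans inf_le_left
  -- the centre
  set Z := ctr Q with hZdef
  have hMZ : M ≤ Subgroup.normalizer (Z : Set G) := hMQ.trans (normalizer_ctr Q)
  have hZQ : Z ≤ Q := inf_le_left
  have hZp : IsPGroup q Z := hQ.to_le hZQ
  have hZcyc : IsCyclic Z := L.isCyclic_of_normal hM hcov (hZQ.trans hQle) hMZ hZp (ctr_comm Q)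
  have heq : e ^ q = 1 := heo ▸ pow_orderOf_eq_one e
  have he1 : e ≠ 1 := fun h => by rw [h, orderOf_one] at heo; exact hqp.one_lt.ne heo
  obtain ⟨z, hzZ, hzo⟩ : ∃ z ∈ Z, orderOf z = q := by
    have : Nontrivial Q :=
      ⟨⟨⟨e, heQ⟩, 1, fun h => he1 (congrArg Subtype.val h)⟩⟩
    have hc := hQ.center_nontrivial
    obtain ⟨k, hk⟩ := IsPGroup.iff_card.1 (hQ.to_subgroup (Subgroup.center Q))
    have hk0 : k ≠ 0 := by
      rintro rfl
      have h1 := Finite.one_lt_card (α := Subgroup.center Q)
      rw [hk, pow_zero] at h1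
      exact lt_irrefl 1 h1
    obtain ⟨⟨⟨z, hzQ⟩, hzc⟩, hzo⟩ := exists_prime_orderOf_dvd_card' q
      (hk ▸ dvd_pow_self q hk0 : q ∣ Nat.card (Subgroup.center Q))
    rw [Subgroup.orderOf_mk, Subgroup.orderOf_mk] at hzo
    exact ⟨z, mem_ctr.2 ⟨hzQ, fun g hg =>
      congrArg Subtype.val (Subgroup.mem_center_iff.1 hzc ⟨g, hg⟩)⟩, hzo⟩
  have hz1 : z ≠ 1 := fun h => by rw [h, orderOf_one] at hzo; exact hqp.one_lt.ne hzo
  have hzQ : z ∈ Q := hZQ hzZ
  have hsmall : ∀ a ∈ Z, a ^ q = 1 → a ∈ Subgroup.zpowers z := fun a ha h =>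
    mem_zpowers_of_pow hZcyc ha hzZ (hzo.symm ▸ h)
  have hcen : ∀ g ∈ Q, Commute g z := (mem_ctr.1 hzZ).2
  have hMz : M ≤ Subgroup.normalizer (Subgroup.zpowers z : Set G) := by
    intro m hm
    rw [Subgroup.mem_normalizer_iff_map_conj_eq]
    change (Subgroup.zpowers z).map (MulAut.conj m).toMonoidHom = Subgroup.zpowers z
    refine Subgroup.eq_of_le_of_card_ge ?_
      (le_of_eq (Nat.card_congr ((Subgroup.zpowers z).equivMapOfInjective _
        (MulEquiv.injective _)).toEquiv))
    rw [MonoidHom.map_zpowers, Subgroup.zpowers_le]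
    refine hsmall _ ((Subgroup.mem_normalizer_iff.1 (hMZ hm) z).1 hzZ) ?_
    rw [← map_pow, ← hzo, pow_orderOf_eq_one, map_one]
  have hzfix : ∀ x ∈ R, Commute z x → x = 1 := by
    intro x hx hcx
    have hS : M ≤ Subgroup.normalizer (fixSub R (Subgroup.zpowers z) : Set G) := by
      intro m hm
      rw [Subgroup.mem_normalizer_iff_map_conj_eq]
      change (fixSub R (Subgroup.zpowers z)).map (MulAut.conj m).toMonoidHom = _
      rw [map_fixSub (L.norm (hM hm))]
      exact congrArg (fixSub R) (Subgroup.mem_normalizer_iff_map_conj_eq.1 (hMz hm))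
    rcases L.irred M hM hcov _ inf_le_left hS with h | h
    · exact Subgroup.mem_bot.1 (h ▸ mem_fixSub_zpowers.2 ⟨hx, hcx⟩)
    · exact absurd (L.faith z (hQH hzQ) fun y hy => (mem_fixSub_zpowers.1 (h.ge hy)).2) hz1
  have hnotfix : ∀ a ∈ Z, a ^ q = 1 → a ≠ 1 → ∀ x ∈ R, Commute a x → x = 1 := by
    intro a ha haq ha1 x hx hcx
    obtain ⟨k, hk⟩ := Subgroup.mem_zpowers_iff.1 (hsmall a ha haq)
    have hza : z ∈ Subgroup.zpowers a := by
      refine mem_zpowers_of_pow hZcyc hzZ ha ?_
      rw [orderOf_eq_prime haq ha1, ← hzo, pow_orderOf_eq_one]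
    obtain ⟨j, hj⟩ := Subgroup.mem_zpowers_iff.1 hza
    exact hzfix x hx (hj ▸ hcx.zpow_left j)
  have heZ : e ∉ Z := by
    intro h
    obtain ⟨x, hx, hx1⟩ := (Subgroup.bot_or_exists_ne_one _).resolve_left hefix
    obtain ⟨hxR, hcx⟩ := mem_fixSub_zpowers.1 hx
    exact hx1 (hnotfix e h heq he1 x hxR hcx)
  -- the layer
  set U := layer Q q with hUdef
  have hUQ : U ≤ Q := layer_le Q q
  have hUle : U ≤ M ⊓ D := hUQ.trans hQle
  have hMU : M ≤ Subgroup.normalizer (U : Set G) := hMQ.trans (normalizer_layer Q q)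
  have hZU : Z ≤ U := ctr_le_layer Q q
  have hUp : IsPGroup q U := hQ.to_le hUQ
  have hcomm : ∀ u ∈ U, ∀ g ∈ Q, comm' u g ∈ Subgroup.zpowers z := fun u hu g hg =>
    hsmall _ (hu.2.2 g hg) (comm'_pow hu hg)
  -- conjugating `f` to `f * z`
  have hconjz : ∀ f g : G, f ∈ Q → g ∈ Q → ¬ Commute g f →
      g * f * g⁻¹ * f⁻¹ ∈ Subgroup.zpowers z → ∃ g' ∈ Q, g' * f * g'⁻¹ = f * z := by
    intro f g hf hg hne hgf
    have hzf := hcen f hf
    obtain ⟨k, hk⟩ := Subgroup.mem_zpowers_iff.1 hgf
    have hpow : ∀ i : ℕ, g ^ i * f * (g ^ i)⁻¹ = (z ^ k) ^ i * f := by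
      intro i
      induction i with
      | zero => simp
      | succ i ih =>
        calc g ^ (i + 1) * f * (g ^ (i + 1))⁻¹ = g * (g ^ i * f * (g ^ i)⁻¹) * g⁻¹ := by
              rw [pow_succ']; group
          _ = g * (z ^ k) ^ i * g⁻¹ * (g * f * g⁻¹) := by rw [ih]; group
          _ = (z ^ k) ^ i * (z ^ k * f) := by
              rw [(((hcen g hg).zpow_right k).pow_right i).eq, mul_inv_cancel_right]
              congr 1
              rw [hk]; group
          _ = _ := by rw [pow_succ, mul_assoc]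
    have hzk1 : z ^ k ≠ 1 := fun h => hne <| by
      rw [hk, mul_inv_eq_one, mul_inv_eq_iff_eq_mul] at h
      exact h
    have hzkq : (z ^ k) ^ q = 1 := by
      rw [← zpow_natCast, ← zpow_mul, mul_comm, zpow_mul, zpow_natCast, ← hzo,
        pow_orderOf_eq_one, one_zpow]
    have hzmem : z ∈ Subgroup.zpowers (z ^ k) := by
      refine mem_zpowers_of_pow hZcyc hzZ (zpow_mem hzZ k) ?_
      rw [orderOf_eq_prime hzkq hzk1, ← hzo, pow_orderOf_eq_one]
    obtain ⟨i, hi⟩ := (isOfFinOrder_of_finite (z ^ k)).mem_powers_iff_mem_zpowers.2 hzmem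
    refine ⟨g ^ i, pow_mem hg i, ?_⟩
    have hi' : (z ^ k) ^ i = z := hi
    rw [hpow i, hi', hzf.eq]
  -- bound for fixed points
  have hbound : ∀ f g : G, f ∈ Q → f ^ q = 1 → f ∉ Subgroup.zpowers z → g ∈ Q →
      g * f * g⁻¹ = f * z →
      fixSub R (Subgroup.zpowers f) ≠ ⊥ ∧
        Nat.card (fixSub R (Subgroup.zpowers f)) ^ q ≤ Nat.card R :=
    fun f g hf hfq hfz hg hgf => L.fix_bound (hQH hf) (hQH hzQ) (hQH hg) hfq hfz hzo
      (hcen f hf) (hcen g hg) hgf hzfix
  have h2q : 2 ≤ q := hqp.two_le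
  by_cases hY : ∃ f, f ∈ offSet U Z q
  · -- the layer has elements of order `q` off the centre
    set Y := offSet U Z q with hYdef
    have hYfin : Y.Finite := Set.toFinite _
    have hYfix : ∀ f ∈ Y, fixSub R (Subgroup.zpowers f) ≠ ⊥ ∧
        Nat.card (fixSub R (Subgroup.zpowers f)) ^ q ≤ Nat.card R := by
      rintro f ⟨hfU, hfq, hfZ⟩
      obtain ⟨g, hg, hne⟩ : ∃ g ∈ Q, ¬ Commute g f := by
        by_contra h
        push Not at h
        exact hfZ (mem_ctr.2 ⟨hUQ hfU, h⟩)
      obtain ⟨g', hg', hgf⟩ := hconjz f g (hUQ hfU) hg hne (by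
        have := inv_mem (hcomm f hfU g hg)
        simpa [comm', mul_assoc] using this)
      exact hbound f g' (hUQ hfU) hfq (fun h => hfZ (Subgroup.zpowers_le.2 hzZ h)) hg' hgf
    obtain ⟨f0, hf0, hmax⟩ := Set.Finite.exists_maximalFor
      (fun f => Nat.card (fixSub R (Subgroup.zpowers f))) Y hYfin hY
    set m0 := Nat.card (fixSub R (Subgroup.zpowers f0)) with hm0def
    have hm0 : ∀ f ∈ Y, Nat.card (fixSub R (Subgroup.zpowers f)) ≤ m0 := fun f hf => by
      by_contra hlt
      exact absurd (hmax (j := f) hf (le_of_lt (not_le.1 hlt))) hlt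
    have hm0q : m0 ^ q ≤ Nat.card R := (hYfix f0 hf0).2
    have hm02 : 2 ≤ m0 := by
      have h1 : m0 ≠ 1 := fun h => (hYfix f0 hf0).1 (Subgroup.eq_bot_of_card_eq _ h)
      have h2 : 0 < m0 := Nat.card_pos
      omega
    -- the stabiliser of a vector
    have hstab : ∀ v ∈ R, v ≠ 1 → ∀ c ∈ U ⊓ Subgroup.centralizer {v},
        c ^ q = 1 ∧ (c ∈ Z → c = 1) := by
      intro v hv hv1 c hc
      obtain ⟨hcU, hcv⟩ := Subgroup.mem_inf.1 hc
      have hcv' : Commute c v := Subgroup.mem_centralizer_singleton_iff.1 hcv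
      have hzero : ∀ a ∈ Z, Commute a v → a = 1 := by
        intro a ha hav
        by_contra ha1
        obtain ⟨j, hj⟩ : ∃ j : ℤ, a ^ j = z := by
          refine Subgroup.mem_zpowers_iff.1 (mem_zpowers_of_pow hZcyc hzZ ha ?_)
          have hdvd : q ∣ orderOf a := by
            obtain ⟨k, hk⟩ := hZp ⟨a, ha⟩
            obtain ⟨i, -, hi⟩ := (Nat.dvd_prime_pow hqp).1 (orderOf_dvd_of_pow_eq_one
              (show a ^ q ^ k = 1 by simpa using congrArg Subtype.val hk))
            rcases i with _ | i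
            · exact absurd (orderOf_eq_one_iff.1 (by simpa using hi)) ha1
            · exact hi ▸ dvd_pow_self q i.succ_ne_zero
          exact orderOf_dvd_iff_pow_eq_one.1 (hzo ▸ hdvd)
        exact hv1 (hzfix v hv (hj ▸ hav.zpow_left j))
      exact ⟨hzero _ hcU.2.1 (hcv'.pow_left q), fun h => hzero c h hcv'⟩
    have hsetC : ∀ v ∈ R, v ≠ 1 → {f ∈ Y | Commute f v} =
        ((U ⊓ Subgroup.centralizer {v} : Subgroup G) : Set G) \ {1} := by
      intro v hv hv1
      ext f
      constructor
      · rintro ⟨⟨hfU, -, hfZ⟩, hfv⟩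
        exact ⟨Subgroup.mem_inf.2 ⟨hfU, Subgroup.mem_centralizer_singleton_iff.2 hfv⟩,
          fun h => hfZ (h ▸ one_mem Z)⟩
      · rintro ⟨hf, hf1⟩
        obtain ⟨hfq, hfZ⟩ := hstab v hv hv1 f hf
        obtain ⟨hfU, hfv⟩ := Subgroup.mem_inf.1 hf
        exact ⟨⟨hfU, hfq, fun h => hf1 (hfZ h)⟩, Subgroup.mem_centralizer_singleton_iff.1 hfv⟩
    have hcount : ∀ v ∈ R, v ≠ 1 →
        D.index * Nat.card U * (Nat.card (U ⊓ Subgroup.centralizer {v} : Subgroup G) - 1) ≤
          Y.ncard * (m0 - 1) * Nat.card (U ⊓ Subgroup.centralizer {v} : Subgroup G) := by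
      intro v hv hv1
      have h := L.count hM hcov hUle Y (offSet_inv hMU hMZ) m0 hm0 hv hv1
      rwa [hsetC v hv hv1, Set.ncard_sdiff_singleton_of_mem (one_mem _),
        ← Nat.card_coe_set_eq] at h
    have hYsub : Y ⊆ {u | u ∈ U ∧ u ^ q = 1} := fun f hf => ⟨hf.1, hf.2.1⟩
    have hYle : Y.ncard ≤ Nat.card U := by
      rw [← SetLike.coe_sort_coe, Nat.card_coe_set_eq]
      exact Set.ncard_le_ncard (fun f hf => hf.1) (Set.toFinite _)
    obtain ⟨v, hv, hv1⟩ := (Subgroup.bot_or_exists_ne_one _).resolve_left (hYfix f0 hf0).1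
    obtain ⟨hvR, hvc⟩ := mem_fixSub_zpowers.1 hv
    have hUpos : 0 < Nat.card U := Nat.card_pos
    have hf01 : f0 ≠ 1 := fun h => hf0.2.2 (h ▸ one_mem Z)
    rcases eq_or_ne q 2 with hq2 | hq2
    swap
    · -- odd `q`
      set c := Nat.card (U ⊓ Subgroup.centralizer {v} : Subgroup G)
      have hc : q ≤ c := by
        have h := Subgroup.card_le_of_le (show Subgroup.zpowers f0 ≤
          U ⊓ Subgroup.centralizer {v} from Subgroup.zpowers_le.2
            (Subgroup.mem_inf.2 ⟨hf0.1, Subgroup.mem_centralizer_singleton_iff.2 hvc⟩))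
        rwa [Nat.card_zpowers, orderOf_eq_prime hf0.2.1 hf01] at h
      have h3 : 3 ≤ q := lt_of_le_of_ne h2q (Ne.symm hq2)
      refine L.false_of_three h3 hm0q hm02 ?_
      have h := hcount v hvR hv1
      have hcpos : 0 < c := by omega
      have h5 : D.index * (c - 1) ≤ (m0 - 1) * c := by
        refine Nat.le_of_mul_le_mul_left ?_ hUpos
        calc Nat.card U * (D.index * (c - 1)) = D.index * Nat.card U * (c - 1) := by ring
          _ ≤ Y.ncard * (m0 - 1) * c := h
          _ ≤ Nat.card U * (m0 - 1) * c := by gcongr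
          _ = _ := by ring
      have h6 : 2 * c ≤ 3 * (c - 1) := by omega
      refine Nat.le_of_mul_le_mul_right ?_ hcpos
      calc 2 * D.index * c = D.index * (2 * c) := by ring
        _ ≤ D.index * (3 * (c - 1)) := Nat.mul_le_mul_left _ h6
        _ = 3 * (D.index * (c - 1)) := by ring
        _ ≤ 3 * ((m0 - 1) * c) := Nat.mul_le_mul_left _ h5
        _ = _ := by ring
    · subst hq2
      have hconcl : ∀ c : ℕ, 0 < c →
          D.index * Nat.card U * (c - 1) ≤ Y.ncard * (m0 - 1) * c →
          Y.ncard * c ≤ Nat.card U * (c - 1) → 2 ≤ c → D.index ≤ m0 - 1 := by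
        intro c _ h h' hc
        refine Nat.le_of_mul_le_mul_right ?_
          (Nat.mul_pos hUpos (show 0 < c - 1 by omega))
        calc D.index * (Nat.card U * (c - 1)) = D.index * Nat.card U * (c - 1) := by ring
          _ ≤ Y.ncard * (m0 - 1) * c := h
          _ = (m0 - 1) * (Y.ncard * c) := by ring
          _ ≤ _ := Nat.mul_le_mul_left _ h'
      by_cases hbig : ∃ w ∈ R, w ≠ 1 ∧
          3 ≤ Nat.card (U ⊓ Subgroup.centralizer {w} : Subgroup G)
      · obtain ⟨w, hw, hw1, hw3⟩ := hbig
        set c := Nat.card (U ⊓ Subgroup.centralizer {w} : Subgroup G)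
        have hc4 : 4 ≤ c := card_pow_two_ge_four (hUp.to_le inf_le_left) hw3
        have h34 : 4 * Y.ncard ≤ 3 * Nat.card U := by
          by_contra hlt
          push Not at hlt
          have hYT : Y.ncard ≤ {x : U | x * x = 1}.ncard := by
            rw [← Set.ncard_image_of_injective _ Subtype.val_injective]
            refine Set.ncard_le_ncard (fun f hf => ⟨⟨f, hf.1⟩, ?_, rfl⟩) (Set.toFinite _)
            exact Subtype.ext (by simpa [pow_two] using hf.2.1)
          have hall := sq_eq_one_of_many (K := U) (by omega)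
          have hUc : IsMulCommutative U := ⟨⟨fun a b => by
            have h1 := hall (a * b)
            have h2 : ∀ x : U, x⁻¹ = x := fun x => inv_eq_of_mul_eq_one_right (hall x)
            calc a * b = (a * b)⁻¹ := (h2 _).symm
              _ = b⁻¹ * a⁻¹ := mul_inv_rev a b
              _ = b * a := by rw [h2, h2]⟩⟩
          have hcyc := L.isCyclic_of_normal hM hcov hUle hMU hUp hUc
          have h1 : f0 ∈ Subgroup.zpowers z := mem_zpowers_of_pow hcyc hf0.1 (hZU hzZ)
            (hzo.symm ▸ hf0.2.1)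
          exact hf0.2.2 (Subgroup.zpowers_le.2 hzZ h1)
        refine L.false_of_le le_rfl hm0q hm02 (hconcl c (by omega) (hcount w hw hw1) ?_ (by omega))
        have h7 : 3 * c ≤ 4 * (c - 1) := by omega
        refine Nat.le_of_mul_le_mul_left ?_ (show 0 < 4 by omega)
        calc 4 * (Y.ncard * c) = 4 * Y.ncard * c := by ring
          _ ≤ 3 * Nat.card U * c := Nat.mul_le_mul_right _ h34
          _ = Nat.card U * (3 * c) := by ring
          _ ≤ Nat.card U * (4 * (c - 1)) := Nat.mul_le_mul_left _ h7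
          _ = _ := by ring
      · push Not at hbig
        have hcomm2 : IsMulCommutative R := L.comm
        -- an involution commuting with `f0` is among `1, f0, z, f0 z`
        have hfour : ∀ f ∈ Y, Commute f f0 → f * f0 ∈ Z := by
          intro f hf hff0
          have hinU : ∀ a ∈ U, ∀ w ∈ R, w ≠ 1 → Commute f0 w → Commute a w → a = 1 ∨ a = f0 := by
            intro a ha w hw hw1 h0 h1
            by_contra hcon
            push Not at hcon
            have h2 := hbig w hw hw1
            have hsub : ({1, f0, a} : Set G) ⊆ (U ⊓ Subgroup.centralizer {w} : Subgroup G) := by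
              rintro x (rfl | rfl | rfl)
              · exact one_mem _
              · exact Subgroup.mem_inf.2 ⟨hf0.1, Subgroup.mem_centralizer_singleton_iff.2 h0⟩
              · exact Subgroup.mem_inf.2 ⟨ha, Subgroup.mem_centralizer_singleton_iff.2 h1⟩
            have h3 := Set.ncard_le_ncard hsub (Set.toFinite _)
            rw [Set.ncard_eq_three.2 ⟨1, f0, a, hf01.symm, Ne.symm hcon.1, Ne.symm hcon.2, rfl⟩,
              ← Nat.card_coe_set_eq, SetLike.coe_sort_coe] at h3
            omega
          have hinvert : ∀ a : G, a ∈ H → a * a = 1 → Commute a f0 →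
              ∃ w ∈ R, Commute a w ∧ Commute f0 w ∧ (w = 1 → a * v * a⁻¹ = v⁻¹) := by
            intro a haH ha2 haf
            have hav : a * v * a⁻¹ ∈ R := (Subgroup.mem_normalizer_iff.1 (L.norm haH) v).1 hvR
            refine ⟨v * (a * v * a⁻¹), mul_mem hvR hav, ?_, hvc.mul_right ?_, fun h => ?_⟩
            · have hc : v * (a * v * a⁻¹) = a * v * a⁻¹ * v := congrArg Subtype.val
                (hcomm2.is_comm.comm (⟨v, hvR⟩ : R) ⟨_, hav⟩)
              have hai : a⁻¹ = a := inv_eq_of_mul_eq_one_right ha2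
              show a * (v * (a * v * a⁻¹)) = v * (a * v * a⁻¹) * a
              calc a * (v * (a * v * a⁻¹)) = a * v * (a * v * a) := by rw [hai]; group
                _ = a * v * a⁻¹ * v * a := by rw [hai]; group
                _ = _ := by rw [hc]
            · exact (haf.symm.mul_right hvc).mul_right haf.symm.inv_right
            · exact (inv_eq_of_mul_eq_one_right h).symm
          have hzinv : z * v * z⁻¹ = v⁻¹ := by
            obtain ⟨w, hw, hzw, -, h⟩ := hinvert z (hQH hzQ)
              (by rw [← pow_two, ← hzo, pow_orderOf_eq_one]) (hcen f0 (hUQ hf0.1)).symm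
            exact h (hzfix w hw hzw)
          obtain ⟨w, hw, hfw, hf0w, h⟩ := hinvert f (hQH (hUQ hf.1))
            (by rw [← pow_two]; exact hf.2.1) hff0
          have hf02 : f0 * f0 = 1 := by rw [← pow_two]; exact hf0.2.1
          by_cases hw1 : w = 1
          · have hfz : Commute (z⁻¹ * f) v := by
              show z⁻¹ * f * v = v * (z⁻¹ * f)
              calc z⁻¹ * f * v = z⁻¹ * (f * v * f⁻¹) * f := by group
                _ = z⁻¹ * (z * v * z⁻¹) * f := by rw [h hw1, hzinv]
                _ = _ := by group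
            rcases hinU _ (mul_mem (inv_mem (hZU hzZ)) hf.1) v hvR hv1 hvc hfz with h1 | h1
            · exact absurd (inv_mul_eq_one.1 h1 ▸ hzZ) hf.2.2
            · rw [inv_mul_eq_iff_eq_mul.1 h1, mul_assoc, hf02, mul_one]
              exact hzZ
          · rcases hinU f hf.1 w hw hw1 hf0w hfw with h1 | h1
            · exact absurd (h1 ▸ one_mem Z) hf.2.2
            · rw [h1, hf02]; exact one_mem Z
        have hhalf : 2 * Y.ncard ≤ Nat.card U := by
          have hmaps : (fun f => f * f0) '' Y ⊆ (U : Set G) \ Y := by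
            rintro _ ⟨f, hf, rfl⟩
            refine ⟨mul_mem hf.1 hf0.1, fun hin => hin.2.2 (hfour f hf ?_)⟩
            have h1 : f * f0 * (f * f0) = 1 := by rw [← pow_two]; exact hin.2.1
            have h2 : f⁻¹ = f := inv_eq_of_mul_eq_one_right (by rw [← pow_two]; exact hf.2.1)
            have h3 : f0⁻¹ = f0 := inv_eq_of_mul_eq_one_right (by rw [← pow_two]; exact hf0.2.1)
            show f * f0 = f0 * f
            calc f * f0 = (f * f0)⁻¹ := (inv_eq_of_mul_eq_one_right h1).symm
              _ = f0⁻¹ * f⁻¹ := mul_inv_rev f f0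
              _ = _ := by rw [h2, h3]
          have h := Set.ncard_le_ncard hmaps (Set.toFinite _)
          have hYU : Y ⊆ (U : Set G) := fun f hf => hf.1
          rw [Set.ncard_image_of_injective _ (mul_left_injective f0),
            Set.ncard_sdiff hYU hYfin,
            show (U : Set G).ncard = Nat.card U from (Nat.card_coe_set_eq _).symm] at h
          omega
        have hc2 : 2 ≤ Nat.card (U ⊓ Subgroup.centralizer {v} : Subgroup G) := by
          have h := Subgroup.card_le_of_le (show Subgroup.zpowers f0 ≤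
            U ⊓ Subgroup.centralizer {v} from Subgroup.zpowers_le.2
              (Subgroup.mem_inf.2 ⟨hf0.1, Subgroup.mem_centralizer_singleton_iff.2 hvc⟩))
          rwa [Nat.card_zpowers, orderOf_eq_prime hf0.2.1 hf01] at h
        have hc2' := hbig v hvR hv1
        refine L.false_of_le le_rfl hm0q hm02 (hconcl 2 two_pos ?_ (by omega) le_rfl)
        have h := hcount v hvR hv1
        rwa [show Nat.card (U ⊓ Subgroup.centralizer {v} : Subgroup G) = 2 by omega] at h
  · -- no elements of order `q` in the layer off the centre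
    push Not at hY
    have hno : ∀ f ∈ U, f ^ q = 1 → f ∈ Z := fun f hf hfq => by
      by_contra h
      exact hY f ⟨hf, hfq, h⟩
    -- the centraliser of the layer
    set K := Q ⊓ Subgroup.centralizer (U : Set G) with hKdef
    have hKQ : K ≤ Q := inf_le_left
    have hmemK : ∀ k, k ∈ K ↔ k ∈ Q ∧ ∀ u ∈ U, Commute u k := fun k => by
      simp [hKdef, Subgroup.mem_centralizer_iff, Commute, SemiconjBy]
    have hZK : Z ≤ K := fun a ha => (hmemK a).2
      ⟨hZQ ha, fun u hu => (mem_ctr.1 ha).2 u (hUQ hu)⟩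
    have hnormK : ∀ m : G, m ∈ Subgroup.normalizer (Q : Set G) →
        m ∈ Subgroup.normalizer (U : Set G) → m ∈ Subgroup.normalizer (K : Set G) := by
      intro m hmQ hmU
      rw [Subgroup.mem_normalizer_iff]
      intro k
      rw [hmemK, hmemK, ← Subgroup.mem_normalizer_iff.1 hmQ k]
      refine and_congr_right fun _ => ⟨fun h u hu => ?_, fun h u hu => ?_⟩
      · have h2 := (Commute.conj_iff m).2 (h _ ((Subgroup.mem_normalizer_iff''.1 hmU u).1 hu))
        have h3 : m * (m⁻¹ * u * m) * m⁻¹ = u := by group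
        rwa [h3] at h2
      · exact (Commute.conj_iff m).1 (h _ ((Subgroup.mem_normalizer_iff.1 hmU u).1 hu))
    have hMK : M ≤ Subgroup.normalizer (K : Set G) := fun m hm => hnormK m (hMQ hm) (hMU hm)
    have hQK : Q ≤ Subgroup.normalizer (K : Set G) := hQM.trans hMK
    by_cases hUc : IsMulCommutative U
    · have hUcyc : IsCyclic U := L.isCyclic_of_normal hM hcov hUle hMU hUp hUc
      have hUK : U ≤ K := fun u hu => (hmemK u).2 ⟨hUQ hu, fun w hw =>
        congrArg Subtype.val (hUc.is_comm.comm (⟨w, hw⟩ : U) ⟨u, hu⟩)⟩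
      have hKne : K ≠ Q := by
        intro hKQ'
        obtain ⟨w, -, hwU, hwZ⟩ := exists_mem_layer hQ le_rfl Subgroup.le_normalizer hZQ heQ heZ
        exact hwZ (mem_ctr.2 ⟨hUQ hwU, fun g hg =>
          (((hmemK g).1 (hKQ'.ge hg)).2 w hwU).symm⟩)
      have hKlt : Nat.card K < Nat.card Q := by
        by_contra hge
        exact hKne (Subgroup.eq_of_le_of_card_ge hKQ (not_lt.1 hge))
      by_cases hfK : ∃ f ∈ K, orderOf f = q ∧ fixSub R (Subgroup.zpowers f) ≠ ⊥
      · obtain ⟨f, hf, hfo, hffix⟩ := hfK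
        exact ih (Nat.card K) (hcard ▸ hKlt) K rfl (hQ.to_le hKQ) (hKQ.trans hQle) hMK f hf hfo
          hffix
      · push Not at hfK
        set Y := offSet Q K q with hYdef
        obtain ⟨u0, hu0⟩ := hUcyc.exists_generator
        have hgen : ∀ g ∈ Q, Commute g (u0 : G) → g ∈ K := fun g hg hc => (hmemK g).2 ⟨hg,
          fun u hu => by
            obtain ⟨k, hk⟩ := Subgroup.mem_zpowers_iff.1 (hu0 ⟨u, hu⟩)
            have hk' : (u0 : G) ^ k = u := by simpa using congrArg Subtype.val hk
            exact hk' ▸ hc.symm.zpow_left k⟩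
        have hYfix : ∀ f ∈ Y, fixSub R (Subgroup.zpowers f) ≠ ⊥ ∧
            Nat.card (fixSub R (Subgroup.zpowers f)) ^ q ≤ Nat.card R := by
          rintro f ⟨hfQ, hfq, hfK'⟩
          have hne : ¬ Commute (u0 : G) f := fun h => hfK' (hgen f hfQ h.symm)
          obtain ⟨g, hg, hgf⟩ := hconjz f u0 hfQ (hUQ u0.2) hne (hcomm u0 u0.2 f hfQ)
          exact hbound f g hfQ hfq
            (fun h => hfK' (hZK (Subgroup.zpowers_le.2 hzZ h))) hg hgf
        have heY : e ∈ Y := ⟨heQ, heq, fun h => hefix (hfK e h heo)⟩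
        obtain ⟨f0, hf0, hmax⟩ := Set.Finite.exists_maximalFor
          (fun f => Nat.card (fixSub R (Subgroup.zpowers f))) Y (Set.toFinite _) ⟨e, heY⟩
        set m0 := Nat.card (fixSub R (Subgroup.zpowers f0)) with hm0def
        have hm0 : ∀ f ∈ Y, Nat.card (fixSub R (Subgroup.zpowers f)) ≤ m0 := fun f hf => by
          by_contra hlt
          exact absurd (hmax (j := f) hf (le_of_lt (not_le.1 hlt))) hlt
        have hm02 : 2 ≤ m0 := by
          have h1 : m0 ≠ 1 := fun h => (hYfix f0 hf0).1 (Subgroup.eq_bot_of_card_eq _ h)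
          have h2 : 0 < m0 := Nat.card_pos
          omega
        obtain ⟨v, hv, hv1⟩ := (Subgroup.bot_or_exists_ne_one _).resolve_left hefix
        obtain ⟨hvR, hvc⟩ := mem_fixSub_zpowers.1 hv
        set C := Q ⊓ Subgroup.centralizer {v} with hCdef
        -- `K` has index at most `q`
        have hKidx : Nat.card Q ≤ q * Nat.card K := by
          have h := orb_card Q (u0 : G)
          have hK' : Q ⊓ Subgroup.centralizer {(u0 : G)} = K := by
            ext g
            constructor
            · rintro ⟨hg, hc⟩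
              exact hgen g hg (Subgroup.mem_centralizer_singleton_iff.1 hc)
            · intro hg
              exact ⟨hKQ hg, Subgroup.mem_centralizer_singleton_iff.2
                (((hmemK g).1 hg).2 u0 u0.2).symm.eq⟩
          rw [hK'] at h
          rw [← h]
          refine Nat.mul_le_mul_right _ ?_
          have hsub : orb Q (u0 : G) ⊆ (fun c => c⁻¹ * (u0 : G)) '' (Subgroup.zpowers z : Set G) := by
            rintro _ ⟨g, hg, rfl⟩
            refine ⟨comm' (u0 : G) g, hcomm u0 u0.2 g hg, ?_⟩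
            simp only [comm']
            group
          refine (Set.ncard_le_ncard hsub (Set.toFinite _)).trans
            ((Set.ncard_image_le (Set.toFinite _)).trans ?_)
          rw [← Nat.card_coe_set_eq, SetLike.coe_sort_coe, Nat.card_zpowers, hzo]
        -- the stabiliser meets `K` trivially
        have hCK : C ⊓ K = ⊥ := by
          by_contra hne
          obtain ⟨k, hk⟩ := IsPGroup.iff_card.1 (hQ.to_le ((inf_le_right : C ⊓ K ≤ K).trans hKQ))
          have hk0 : k ≠ 0 := by
            rintro rfl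
            exact hne (Subgroup.card_eq_one.1 (by simpa using hk))
          obtain ⟨⟨a, ha⟩, hao⟩ := exists_prime_orderOf_dvd_card' q
            (hk ▸ dvd_pow_self q hk0 : q ∣ Nat.card (C ⊓ K : Subgroup G))
          rw [Subgroup.orderOf_mk] at hao
          obtain ⟨haC, haK⟩ := Subgroup.mem_inf.1 ha
          have hav : v ∈ fixSub R (Subgroup.zpowers a) := mem_fixSub_zpowers.2
            ⟨hvR, Subgroup.mem_centralizer_singleton_iff.1 (Subgroup.mem_inf.1 haC).2⟩
          rw [hfK a haK hao, Subgroup.mem_bot] at hav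
          exact hv1 hav
        have hCcard : Nat.card C ≤ q := by
          have h : Nat.card C * Nat.card K ≤ Nat.card Q := by
            rw [← Nat.card_prod]
            refine Nat.card_le_card_of_injective
              (fun p => (⟨(p.1 : G) * (p.2 : G), mul_mem p.1.2.1 (hKQ p.2.2)⟩ : Q)) ?_
            exact fun p p' h => Subgroup.mul_injective_of_disjoint
              (disjoint_iff.2 hCK) (congrArg Subtype.val h)
          refine Nat.le_of_mul_le_mul_right (h.trans hKidx) Nat.card_pos
        have heC : Subgroup.zpowers e ≤ C := Subgroup.zpowers_le.2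
          (Subgroup.mem_inf.2 ⟨heQ, Subgroup.mem_centralizer_singleton_iff.2 hvc⟩)
        have hCq : Nat.card C = q := by
          have h := Subgroup.card_le_of_le heC
          rw [Nat.card_zpowers, heo] at h
          omega
        have hsY : {f ∈ Y | Commute f v} = (C : Set G) \ {1} := by
          ext f
          constructor
          · rintro ⟨⟨hfQ, -, hfK'⟩, hfv⟩
            exact ⟨⟨hfQ, Subgroup.mem_centralizer_singleton_iff.2 hfv⟩,
              fun h => hfK' (h ▸ one_mem K)⟩
          · rintro ⟨hf, hf1⟩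
            refine ⟨⟨hf.1, ?_, fun h => hf1 ?_⟩, Subgroup.mem_centralizer_singleton_iff.1 hf.2⟩
            · have : (⟨f, hf⟩ : C) ^ q = 1 := by rw [← hCq]; exact pow_card_eq_one'
              simpa using congrArg Subtype.val this
            · exact Subgroup.mem_bot.1 (hCK ▸ Subgroup.mem_inf.2 ⟨hf, h⟩)
        have h := L.count hM hcov hQle Y (offSet_inv hMQ hMK) m0 hm0 hvR hv1
        rw [hsY, Set.ncard_sdiff_singleton_of_mem (one_mem _), ← Nat.card_coe_set_eq,
          SetLike.coe_sort_coe, hCq] at h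
        have hYle : Y.ncard ≤ Nat.card Q - Nat.card K := by
          have h1 : Y ⊆ (Q : Set G) \ (K : Set G) := fun f hf => ⟨hf.1, hf.2.2⟩
          have h2 := Set.ncard_le_ncard h1 (Set.toFinite _)
          rwa [Set.ncard_sdiff (show (K : Set G) ⊆ Q from hKQ) (Set.toFinite _),
            ← Nat.card_coe_set_eq, ← Nat.card_coe_set_eq] at h2
        refine L.false_of_le h2q (hYfix f0 hf0).2 hm02 ?_
        have hQpos : 0 < Nat.card Q := Nat.card_pos
        have h8 : Y.ncard * q ≤ Nat.card Q * (q - 1) := by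
          have h9 : Y.ncard * q ≤ (Nat.card Q - Nat.card K) * q := Nat.mul_le_mul_right _ hYle
          rw [Nat.sub_mul, mul_comm (Nat.card K) q] at h9
          rw [Nat.mul_sub, mul_one]
          omega
        refine Nat.le_of_mul_le_mul_right ?_ (Nat.mul_pos hQpos (show 0 < q - 1 by omega))
        calc D.index * (Nat.card Q * (q - 1)) = D.index * Nat.card Q * (q - 1) := by ring
          _ ≤ Y.ncard * (m0 - 1) * q := h
          _ = (m0 - 1) * (Y.ncard * q) := by ring
          _ ≤ _ := Nat.mul_le_mul_left _ h8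
    · -- a nonabelian layer
      obtain ⟨u, hu, v, hv, huv⟩ : ∃ u ∈ U, ∃ v ∈ U, ¬ Commute u v := by
        by_contra hcon
        push Not at hcon
        exact hUc ⟨⟨fun a b => Subtype.ext (hcon a a.2 b b.2).eq⟩⟩
      rcases eq_or_ne q 2 with hq2 | hq2
      swap
      · -- odd `q`
        have key : ∀ a b : G, a ∈ U → b ∈ U → b ^ q ∈ Subgroup.zpowers (a ^ q) →
            Commute a b := by
          intro a b ha hb hab
          obtain ⟨c, hc⟩ := Subgroup.mem_zpowers_iff.1 hab
          have hx : a ^ (-c) ∈ U := zpow_mem ha _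
          set x := a ^ (-c)
          have hxq : (b * x) ^ q = 1 := by
            have hcm : comm' x b ∈ Subgroup.zpowers z := hcomm x hx b (hUQ hb)
            obtain ⟨j, hj⟩ := Subgroup.mem_zpowers_iff.1 hcm
            rw [mul_pow_class_two (c := comm' x b) (hj ▸ ((hcen b (hUQ hb)).symm.zpow_left j))
              (hj ▸ ((hcen x (hUQ hx)).symm.zpow_left j)) (by simp [comm', mul_assoc]) q]
            have h2 : x ^ q = (b ^ q)⁻¹ := by
              rw [← hc, ← zpow_natCast, ← zpow_mul, ← zpow_natCast, ← zpow_mul, ← zpow_neg]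
              congr 1; ring
            rw [h2, mul_inv_cancel, one_mul]
            obtain ⟨i, hi⟩ :=
              hqp.dvd_choose_self (by omega : (2 : ℕ) ≠ 0) (lt_of_le_of_ne h2q (Ne.symm hq2))
            rw [hi, pow_mul, comm'_pow hx (hUQ hb), one_pow]
          have hZmem := hno _ (mul_mem hb hx) hxq
          have h3 : Commute a (b * x) := (mem_ctr.1 hZmem).2 a (hUQ ha)
          have h4 := h3.mul_right ((Commute.refl a).zpow_right (-c)).inv_right
          rwa [mul_inv_cancel_right] at h4
        rcases mem_zpowers_or hZcyc hZp hu.2.1 hv.2.1 with h | h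
        · exact huv (key v u hv hu h).symm
        · exact huv (key u v hu hv h)
      subst hq2
      -- commuting elements of the layer agree modulo the centre
      have hcomU : ∀ a b : G, a ∈ U → b ∈ U → b ∉ Z → Commute a b → a ∈ Z ∨ a * b ∈ Z := by
        intro a b ha hb hbZ hab
        rcases mem_zpowers_or hZcyc hZp ha.2.1 hb.2.1 with h | h
        · obtain ⟨c, hc⟩ := Subgroup.mem_zpowers_iff.1 h
          rcases Int.even_or_odd c with ⟨i, hi⟩ | ⟨i, hi⟩
          · left
            have hbi : b ^ c ∈ Z := by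
              rw [hi, ← two_mul, zpow_mul, zpow_ofNat]
              exact zpow_mem hb.2.1 i
            have h1 : (a * (b ^ c)⁻¹) ^ 2 = 1 := by
              rw [((hab.zpow_right c).inv_right).mul_pow, inv_pow, ← hc, ← zpow_natCast,
                ← zpow_natCast, ← zpow_mul, ← zpow_mul, mul_comm, mul_inv_cancel]
            have h2 := mul_mem (hno _ (mul_mem ha (inv_mem (zpow_mem hb c))) h1) hbi
            rwa [inv_mul_cancel_right] at h2
          · right
            have hbi : b ^ (c + 1) ∈ Z := by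
              rw [hi, show 2 * i + 1 + 1 = 2 * (i + 1) by ring, zpow_mul, zpow_ofNat]
              exact zpow_mem hb.2.1 _
            have h1 : (a * (b ^ c)⁻¹) ^ 2 = 1 := by
              rw [((hab.zpow_right c).inv_right).mul_pow, inv_pow, ← hc, ← zpow_natCast,
                ← zpow_natCast, ← zpow_mul, ← zpow_mul, mul_comm, mul_inv_cancel]
            have h2 := mul_mem (hno _ (mul_mem ha (inv_mem (zpow_mem hb c))) h1) hbi
            rwa [mul_assoc, zpow_add_one, inv_mul_cancel_left] at h2
        · obtain ⟨c, hc⟩ := Subgroup.mem_zpowers_iff.1 h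
          rcases Int.even_or_odd c with ⟨i, hi⟩ | ⟨i, hi⟩
          · exfalso
            have hai : a ^ c ∈ Z := by
              rw [hi, ← two_mul, zpow_mul, zpow_ofNat]
              exact zpow_mem ha.2.1 i
            have h1 : (b * (a ^ c)⁻¹) ^ 2 = 1 := by
              rw [((hab.symm.zpow_right c).inv_right).mul_pow, inv_pow, ← hc, ← zpow_natCast,
                ← zpow_natCast, ← zpow_mul, ← zpow_mul, mul_comm, mul_inv_cancel]
            have h2 := mul_mem (hno _ (mul_mem hb (inv_mem (zpow_mem ha c))) h1) hai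
            rw [inv_mul_cancel_right] at h2
            exact hbZ h2
          · right
            have hai : a ^ (c + 1) ∈ Z := by
              rw [hi, show 2 * i + 1 + 1 = 2 * (i + 1) by ring, zpow_mul, zpow_ofNat]
              exact zpow_mem ha.2.1 _
            have h1 : (b * (a ^ c)⁻¹) ^ 2 = 1 := by
              rw [((hab.symm.zpow_right c).inv_right).mul_pow, inv_pow, ← hc, ← zpow_natCast,
                ← zpow_natCast, ← zpow_mul, ← zpow_mul, mul_comm, mul_inv_cancel]
            have h2 := mul_mem (hno _ (mul_mem hb (inv_mem (zpow_mem ha c))) h1) hai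
            rw [mul_assoc, zpow_add_one, inv_mul_cancel_left, ← hab.eq] at h2
            exact h2
      have hcl : ∀ a ∈ U, ∀ g ∈ Q, comm' a g = 1 ∨ comm' a g = z := by
        intro a ha g hg
        obtain ⟨i, hi⟩ := (isOfFinOrder_of_finite z).mem_powers_iff_mem_zpowers.2 (hcomm a ha g hg)
        have hi' : z ^ i = comm' a g := hi
        rw [← hi', pow_eq_pow_mod i (by rw [← hzo, pow_orderOf_eq_one] : z ^ 2 = 1)]
        rcases Nat.mod_two_eq_zero_or_one i with h | h <;> rw [h]
        · exact Or.inl (pow_zero z)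
        · exact Or.inr (pow_one z)
      have hcomm_iff : ∀ a g : G, comm' a g = 1 ↔ Commute a g := fun a g => by
        simp only [comm', Commute, SemiconjBy]
        rw [mul_inv_eq_one, mul_inv_eq_iff_eq_mul]
      have hmulg : ∀ a ∈ U, ∀ g ∈ Q, ∀ g' ∈ Q,
          comm' a (g * g') = comm' a g * comm' a g' := by
        intro a ha g hg g' hg'
        calc comm' a (g * g') = comm' a g * (g * comm' a g' * g⁻¹) := by simp only [comm']; group
          _ = _ := by rw [((mem_ctr.1 (ha.2.2 g' hg')).2 g hg).eq, mul_inv_cancel_right]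
      have huv' : comm' u v = z := (hcl u hu v (hUQ hv)).resolve_left
        fun h => huv ((hcomm_iff u v).1 h)
      have hvu' : comm' v u = z := (hcl v hv u (hUQ hu)).resolve_left
        fun h => huv ((hcomm_iff v u).1 h).symm
      have huu : comm' u u = 1 := (hcomm_iff u u).2 (Commute.refl u)
      have hvv : comm' v v = 1 := (hcomm_iff v v).2 (Commute.refl v)
      have hz2 : z * z = 1 := by rw [← pow_two, ← hzo, pow_orderOf_eq_one]
      obtain ⟨t, ht, htu, htv⟩ :
          ∃ t ∈ U, comm' u (e * t) = 1 ∧ comm' v (e * t) = 1 := by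
        rcases hcl u hu e heQ with h1 | h1 <;> rcases hcl v hv e heQ with h2 | h2
        · exact ⟨1, one_mem U, by rw [mul_one, h1], by rw [mul_one, h2]⟩
        · refine ⟨u, hu, ?_, ?_⟩
          · rw [hmulg u hu e heQ u (hUQ hu), h1, huu, one_mul]
          · rw [hmulg v hv e heQ u (hUQ hu), h2, hvu', hz2]
        · refine ⟨v, hv, ?_, ?_⟩
          · rw [hmulg u hu e heQ v (hUQ hv), h1, huv', hz2]
          · rw [hmulg v hv e heQ v (hUQ hv), h2, hvv, one_mul]
        · refine ⟨u * v, mul_mem hu hv, ?_, ?_⟩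
          · rw [hmulg u hu e heQ (u * v) (hUQ (mul_mem hu hv)), hmulg u hu u (hUQ hu) v (hUQ hv),
              h1, huu, huv', one_mul, hz2]
          · rw [hmulg v hv e heQ (u * v) (hUQ (mul_mem hu hv)), hmulg v hv u (hUQ hu) v (hUQ hv),
              h2, hvv, hvu', mul_one, hz2]
      set k := e * t
      have hkQ : k ∈ Q := mul_mem heQ (hUQ ht)
      have hku : Commute u k := (hcomm_iff u k).1 htu
      have hkv : Commute v k := (hcomm_iff v k).1 htv
      have hvZ : v ∉ Z := fun h => huv ((mem_ctr.1 h).2 u (hUQ hu))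
      have huZ : u ∉ Z := fun h => huv ((mem_ctr.1 h).2 v (hUQ hv)).symm
      have hgenU : ∀ w ∈ U, Commute w k := by
        have step : ∀ w ∈ U, Commute w u → Commute w k := by
          intro w hw hwu
          rcases hcomU w u hw hu huZ hwu with h | h
          · exact ((mem_ctr.1 h).2 k hkQ).symm
          · have h3 := (((mem_ctr.1 h).2 k hkQ).symm.mul_left hku.inv_left)
            rwa [mul_inv_cancel_right] at h3
        intro w hw
        rcases hcl u hu w (hUQ hw) with h | h
        · exact step w hw ((hcomm_iff u w).1 h).symm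
        · have h2 : Commute (v * w) u := ((hcomm_iff u (v * w)).1 (by
            rw [hmulg u hu v (hUQ hv) w (hUQ hw), h, huv', hz2])).symm
          have h3 := hkv.inv_left.mul_left (step _ (mul_mem hv hw) h2)
          rwa [inv_mul_cancel_left] at h3
      have hkK : k ∈ K := (hmemK k).2 ⟨hkQ, hgenU⟩
      have hkZ : k ∉ Z := fun h => heZ (hno e (by
        have h2 := mul_mem (hZU h) (inv_mem ht)
        rwa [mul_inv_cancel_right] at h2) heq)
      obtain ⟨w, hwK, hwU, hwZ⟩ := exists_mem_layer hQ hKQ hQK hZK hkK hkZ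
      have hwuv := ((hmemK w).1 hwK).2
      rcases hcomU w u hwU hu huZ (hwuv u hu).symm with h | h
      · exact hwZ h
      rcases hcomU w v hwU hv hvZ (hwuv v hv).symm with h' | h'
      · exact hwZ h'
      apply huv
      have h5 : u⁻¹ * v ∈ Z := by
        have h6 := mul_mem (inv_mem h) h'
        have h7 : (w * u)⁻¹ * (w * v) = u⁻¹ * v := by group
        rwa [h7] at h6
      have h8 := (Commute.refl u).mul_right ((mem_ctr.1 h5).2 u (hUQ hu))
      rwa [mul_inv_cancel_left] at h8

/-- **The covering group acts semiregularly.** -/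
theorem Lin.semiregular : ∀ e ∈ H ⊓ D, e ≠ 1 → ∀ x ∈ R, Commute e x → x = 1 := by
  intro e he he1 x hx hex
  by_contra hx1
  have hord : orderOf e ≠ 1 := fun h => he1 (orderOf_eq_one_iff.1 h)
  set q := (orderOf e).minFac with hqdef
  have hqp : q.Prime := Nat.minFac_prime hord
  have := Fact.mk hqp
  set f := e ^ (orderOf e / q) with hfdef
  have hfo : orderOf f = q :=
    orderOf_pow_orderOf_div (orderOf_pos e).ne' (Nat.minFac_dvd _)
  have hfHD : f ∈ H ⊓ D := pow_mem he _
  have hfx : Commute f x := hex.pow_left _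
  obtain ⟨P, hP⟩ := ((IsPGroup.of_card (n := 1) (by rw [Nat.card_zpowers, hfo, pow_one]) :
    IsPGroup q (Subgroup.zpowers f)).comap_of_injective (H ⊓ D).subtype
      (H ⊓ D).subtype_injective).exists_le_sylow
  set Q : Subgroup G := (P : Subgroup (H ⊓ D : Subgroup G)).map (H ⊓ D).subtype
  have hQle : Q ≤ H ⊓ D := Subgroup.map_subtype_le _
  have hQp : IsPGroup q Q := P.2.map _
  have hfQ : f ∈ Q := ⟨⟨f, hfHD⟩, hP (Subgroup.mem_zpowers f), rfl⟩
  set M := H ⊓ Subgroup.normalizer (Q : Set G)
  have hcov : Covers D M := by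
    intro g
    obtain ⟨m, hm, hgm⟩ := L.covers g
    obtain ⟨k, hk, hkm⟩ := frattini (M := H) (K := H ⊓ D) (by
      intro y hy
      rw [Subgroup.mem_normalizer_iff]
      intro z
      simp only [Subgroup.mem_inf]
      constructor
      · rintro ⟨h1, h2⟩
        exact ⟨mul_mem (mul_mem hy h1) (inv_mem hy), L.normal.conj_mem _ h2 y⟩
      · rintro ⟨h1, h2⟩
        refine ⟨?_, ?_⟩
        · have h3 := mul_mem (mul_mem (inv_mem hy) h1) hy
          simpa [mul_assoc] using h3
        · have h3 := L.normal.conj_mem _ h2 y⁻¹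
          simpa [mul_assoc] using h3) P hm
    refine ⟨k⁻¹ * m, Subgroup.mem_inf.2 ⟨mul_mem (inv_mem (Subgroup.mem_inf.1 hk).1) hm, hkm⟩, ?_⟩
    have h1 : g⁻¹ * (k⁻¹ * m) = (g⁻¹ * k⁻¹ * g) * (g⁻¹ * m) := by group
    rw [h1]
    refine mul_mem ?_ hgm
    simpa [mul_assoc] using L.normal.conj_mem _ (inv_mem (Subgroup.mem_inf.1 hk).2) g⁻¹
  refine L.no_fixer (M := M) inf_le_left hcov Q hQp
    (le_inf (le_inf (hQle.trans inf_le_left) Subgroup.le_normalizer) (hQle.trans inf_le_right))
    inf_le_right f hfQ hfo fun hbot => hx1 ?_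
  exact Subgroup.mem_bot.1 (hbot ▸ mem_fixSub_zpowers.2 ⟨hx, hfx⟩)

end H25.Derange
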