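import Cfsg.Agent.H25.Derange.Reduce
import Cfsg.Agent.H25.Derange.Symplectic

/-!
# The regular Sylow subgroup case: structure
-/

set_option autoImplicit false

namespace H25.Derange

open MulAction

variable {G Ω : Type*} [Group G] [MulAction G Ω]

/-- A Sylow `r`-subgroup `R` of `D` acting regularly, below the bound. -/
structure Reg (D : Subgroup G) (a : Ω) (r : ℕ) (R : Subgroup G) : Prop where
  setup : Setup D Ω
  two_le_index : 2 ≤ D.index
  bad : Nat.card Ω < (D.index + 1) ^ 2
  rp : r.Prime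
  isPow : ∃ i, 1 ≤ i ∧ Nat.card Ω = r ^ i
  leD : R ≤ D
  card_eq : Nat.card R = Nat.card Ω
  cop : ¬ r ∣ Nat.card (stabilizer G a ⊓ D : Subgroup G)
  free : ∀ x ∈ R, x • a = a → x = 1
  reach : ∀ y : Ω, ∃ x ∈ R, x • a = y

variable [Finite G] [Finite Ω]

theorem Setup.exists_reg {D : Subgroup G} (S : Setup D Ω)
    (hbad : Nat.card Ω < (D.index + 1) ^ 2) (hd : 2 ≤ D.index) (a : Ω) :
    ∃ r R, Reg D a r R := by
  obtain ⟨r, i, hr, hi, hn, hcop⟩ := S.reduce hbad hd a
  have := Fact.mk hr
  obtain ⟨P⟩ : Nonempty (Sylow r D) := inferInstance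
  set R : Subgroup G := (P : Subgroup D).map D.subtype
  have hRD : R ≤ D := Subgroup.map_subtype_le _
  have hRp : IsPGroup r R := P.2.map _
  have hcardP : Nat.card R = Nat.card (P : Subgroup D) :=
    Nat.card_congr ((P : Subgroup D).equivMapOfInjective _ D.subtype_injective).symm.toEquiv
  have hcard : Nat.card R = Nat.card Ω := by
    have h1 := (P : Subgroup D).card_mul_index
    rw [← hcardP, S.card_D a, hn] at h1
    obtain ⟨k, hk⟩ := IsPGroup.iff_card.1 hRp
    rw [hk, hn]
    rw [hk] at h1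
    have hco1 : Nat.Coprime (r ^ k) (Nat.card (stabilizer G a ⊓ D : Subgroup G)) :=
      (hr.coprime_iff_not_dvd.2 hcop).pow_left k
    have hco2 : Nat.Coprime (r ^ i) (P : Subgroup D).index :=
      (hr.coprime_iff_not_dvd.2 P.not_dvd_index).pow_left i
    exact Nat.dvd_antisymm (hco1.dvd_of_dvd_mul_right ⟨_, h1.symm⟩)
      (hco2.dvd_of_dvd_mul_right ⟨_, h1⟩)
  have hfree : ∀ x ∈ R, x • a = a → x = 1 := by
    intro x hx hxa
    obtain ⟨k, hk⟩ := IsPGroup.iff_card.1 hRp
    have h1 : orderOf x ∣ r ^ k := hk ▸ Subgroup.orderOf_dvd_natCard R hx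
    have h2 : orderOf x ∣ Nat.card (stabilizer G a ⊓ D : Subgroup G) :=
      Subgroup.orderOf_dvd_natCard _ ⟨hxa, hRD hx⟩
    exact orderOf_eq_one_iff.1 (Nat.eq_one_of_dvd_coprimes
      ((hr.coprime_iff_not_dvd.2 hcop).pow_left k) h1 h2)
  refine ⟨r, R, S, hd, hbad, hr, ⟨i, hi, hn⟩, hRD, hcard, hcop, hfree, fun y => ?_⟩
  have hinj : Function.Injective (fun x : R => (x : G) • a) := fun x x' h => by
    have h' : (x : G) • a = (x' : G) • a := h
    have := hfree _ (mul_mem (inv_mem x'.2) x.2)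
      (by rw [mul_smul, h', inv_smul_smul])
    exact Subtype.ext (inv_mul_eq_one.1 this).symm
  obtain ⟨x, hx⟩ := ((Nat.bijective_iff_injective_and_card _).2 ⟨hinj, hcard⟩).2 y
  exact ⟨x, x.2, hx⟩

variable {D : Subgroup G} {a : Ω} {r : ℕ} {R : Subgroup G} (E : Reg D a r R)
include E

omit [Finite G] [Finite Ω] in
theorem Reg.ne_bot : R ≠ ⊥ := by
  intro h
  have h1 := E.setup.two_le
  rw [← E.card_eq, h, Subgroup.card_bot] at h1
  omega

omit [Finite Ω] in
theorem Reg.isPGroup : IsPGroup r R := by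
  have := Fact.mk E.rp
  obtain ⟨i, -, hn⟩ := E.isPow
  exact IsPGroup.of_card (E.card_eq.trans hn)

/-- the covering subgroup `N_G(R) ⊓ stab a` -/
theorem Reg.covers : Covers D (Subgroup.normalizer (R : Set G) ⊓ stabilizer G a) := by
  have := Fact.mk E.rp
  have hp : IsPGroup r (R.subgroupOf D) :=
    E.isPGroup.comap_of_injective D.subtype D.subtype_injective
  have hidx : ¬ r ∣ (R.subgroupOf D).index := by
    intro h
    have h1 := (R.subgroupOf D).card_mul_index
    rw [Nat.card_congr (Subgroup.subgroupOfEquivOfLe E.leD).toEquiv, E.card_eq,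
      E.setup.card_D a] at h1
    exact E.cop (Nat.eq_of_mul_eq_mul_left (lt_of_lt_of_le two_pos E.setup.two_le) h1 ▸ h)
  set P : Sylow r D := hp.toSylow hidx
  have hP : ((P : Subgroup D).map D.subtype : Subgroup G) = R := by
    show (R.subgroupOf D).map D.subtype = R
    rw [Subgroup.subgroupOf_map_subtype, inf_eq_left.2 E.leD]
  intro g
  obtain ⟨m, hm, hgm⟩ := E.setup.covers_stab a g
  obtain ⟨k, hk, hkm⟩ := frattini (M := stabilizer G a) (K := D) (fun y _ => by
    rw [Subgroup.mem_normalizer_iff]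
    exact fun z => ⟨fun h => E.setup.normal.conj_mem z h y, fun h => by
      have := E.setup.normal.conj_mem _ h y⁻¹
      simpa [mul_assoc] using this⟩) P hm
  rw [hP] at hkm
  obtain ⟨x, hx, hxa⟩ := E.reach ((k⁻¹ * m) • a)
  refine ⟨x⁻¹ * (k⁻¹ * m), Subgroup.mem_inf.2 ⟨mul_mem (inv_mem
    (Subgroup.le_normalizer hx)) hkm, ?_⟩, ?_⟩
  · rw [mem_stabilizer_iff, mul_smul, ← hxa, inv_smul_smul]
  · have h1 : g⁻¹ * (x⁻¹ * (k⁻¹ * m)) = g⁻¹ * (x⁻¹ * k⁻¹) * g * (g⁻¹ * m) := by group
    rw [h1]
    refine mul_mem ?_ hgm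
    simpa using E.setup.normal.conj_mem _ (mul_mem (inv_mem (E.leD hx)) (inv_mem hk)) g⁻¹

omit [Finite G] [Finite Ω] in
/-- conjugation on `R` is the action on points -/
theorem Reg.commute_iff {h : G} (hh : h ∈ Subgroup.normalizer (R : Set G) ⊓ stabilizer G a)
    {x : G} (hx : x ∈ R) : Commute h x ↔ h • (x • a) = x • a := by
  obtain ⟨hhR, hha⟩ := Subgroup.mem_inf.1 hh
  have hha' : h • a = a := hha
  constructor
  · intro hc
    rw [← mul_smul, hc.eq, mul_smul, hha']
  · intro he
    have hx' : h * x * h⁻¹ ∈ R := (Subgroup.mem_normalizer_iff.1 hhR x).1 hx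
    have h1 := E.free _ (mul_mem (inv_mem hx) hx') (by
      rw [mul_smul, mul_smul, mul_smul, inv_smul_eq_iff.2 hha'.symm, he, inv_smul_smul])
    exact mul_inv_eq_iff_eq_mul.1 (inv_mul_eq_one.1 h1).symm

/-- the linear step hypotheses -/
theorem Reg.lin : Lin R (Subgroup.normalizer (R : Set G) ⊓ stabilizer G a) D r := by
  classical
  have := Fact.mk E.rp
  set H := Subgroup.normalizer (R : Set G) ⊓ stabilizer G a with hHdef
  obtain ⟨i, hi, hn⟩ := E.isPow
  have hirred : ∀ M : Subgroup G, M ≤ H → Covers D M → ∀ T : Subgroup G, T ≤ R →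
      M ≤ Subgroup.normalizer (T : Set G) → T = ⊥ ∨ T = R := by
    intro M hM hcov T hT hMT
    by_contra hcon
    push Not at hcon
    set O : Set Ω := (fun x => x • a) '' ((T : Set G) \ {1})
    have hOcard : O.ncard = Nat.card T - 1 := by
      rw [Set.InjOn.ncard_image, Set.ncard_sdiff_singleton_of_mem (one_mem T),
        ← Nat.card_coe_set_eq, SetLike.coe_sort_coe]
      intro x hx y hy hxy
      have hxy' : x • a = y • a := hxy
      exact (inv_mul_eq_one.1 (E.free _ (mul_mem (inv_mem (hT hy.1)) (hT hx.1))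
        (by rw [mul_smul, hxy', inv_smul_smul]))).symm
    have hdvd := hcov.index_dvd_ncard E.setup.uniq a (fun m hm => (hM hm).2) O
      (by rintro ⟨x, ⟨hx, hx1⟩, hxa⟩; exact hx1 (E.free x (hT hx) hxa))
      (by
        rintro m hm _ ⟨x, ⟨hx, hx1⟩, rfl⟩
        have hma : m • a = a := (hM hm).2
        refine ⟨m * x * m⁻¹, ⟨(Subgroup.mem_normalizer_iff.1 (hMT hm) x).1 hx, fun h => hx1 ?_⟩, ?_⟩
        · simpa using h
        · show (m * x * m⁻¹) • a = m • (x • a)
          rw [mul_smul, mul_smul, inv_smul_eq_iff.2 hma.symm])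
    rw [hOcard] at hdvd
    obtain ⟨j, hj⟩ := IsPGroup.iff_card.1 (E.isPGroup.to_le hT)
    have hj1 : 1 ≤ j := Nat.one_le_iff_ne_zero.2 fun h => hcon.1
      (Subgroup.eq_bot_of_card_eq _ (by rw [hj, h, pow_zero]))
    have hji : j < i := by
      by_contra hle
      refine hcon.2 (Subgroup.eq_of_le_of_card_ge hT ?_)
      rw [hj, E.card_eq, hn]
      exact Nat.pow_le_pow_right E.rp.pos (not_lt.1 hle)
    have h1 := sq_bound_of_pow_dvd E.rp.two_le hj1 hji (hn ▸ E.setup.index_dvd_pred) (hj ▸ hdvd)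
    have h2 := E.bad
    omega
  have hnormH : H ≤ Subgroup.normalizer (R : Set G) := inf_le_left
  have hcomm : IsMulCommutative R := by
    have hsub : ctr R ≤ R := inf_le_left
    have hM : H ≤ Subgroup.normalizer (ctr R : Set G) := hnormH.trans (normalizer_ctr R)
    rcases hirred H le_rfl E.covers _ hsub hM with h | h
    · exfalso
      have hne : Nontrivial R := (Subgroup.nontrivial_iff_ne_bot R).2 E.ne_bot
      have hc := E.isPGroup.center_nontrivial
      obtain ⟨⟨x, hx⟩, hx1⟩ := exists_ne (1 : Subgroup.center R)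
      have h1 : (x : G) ∈ ctr R := mem_ctr.2 ⟨x.2, fun g hg =>
        congrArg Subtype.val (Subgroup.mem_center_iff.1 hx ⟨g, hg⟩)⟩
      rw [h, Subgroup.mem_bot] at h1
      exact hx1 (Subtype.ext (Subtype.ext h1))
    · exact h ▸ ctr_comm R
  have hexp : ∀ x ∈ R, x ^ r = 1 := by
    let T : Subgroup G :=
      { carrier := {x | x ∈ R ∧ x ^ r = 1}
        one_mem' := ⟨one_mem R, one_pow r⟩
        inv_mem' := fun {x} hx => ⟨inv_mem hx.1, by rw [inv_pow, hx.2, inv_one]⟩
        mul_mem' := fun {x y} hx hy => ⟨mul_mem hx.1 hy.1, by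
          have hxy : Commute x y := congrArg Subtype.val
            (hcomm.is_comm.comm (⟨x, hx.1⟩ : R) ⟨y, hy.1⟩)
          rw [hxy.mul_pow, hx.2, hy.2, one_mul]⟩ }
    have hM : H ≤ Subgroup.normalizer (T : Set G) := fun m hm => by
      rw [Subgroup.mem_normalizer_iff]
      intro x
      show (x ∈ R ∧ x ^ r = 1) ↔ (m * x * m⁻¹ ∈ R ∧ (m * x * m⁻¹) ^ r = 1)
      rw [← Subgroup.mem_normalizer_iff.1 (hnormH hm) x, conj_pow, conj_eq_one_iff]
    rcases hirred H le_rfl E.covers T (fun x hx => hx.1) hM with h | h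
    · exfalso
      have hdvd : r ∣ Nat.card R := by
        rw [E.card_eq, hn]
        exact dvd_pow_self r (by omega)
      obtain ⟨⟨x, hx⟩, hxo⟩ := exists_prime_orderOf_dvd_card' r hdvd
      rw [Subgroup.orderOf_mk] at hxo
      have h1 : x ∈ T := ⟨hx, hxo ▸ pow_orderOf_eq_one x⟩
      rw [h, Subgroup.mem_bot] at h1
      rw [h1, orderOf_one] at hxo
      exact E.rp.one_lt.ne hxo
    · exact fun x hx => (h.ge hx).2
  exact {
    rp := E.rp
    normal := E.setup.normal
    nontriv := E.ne_bot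
    comm := hcomm
    exp := hexp
    norm := hnormH
    cop := fun hdvd => by
      rw [E.covers.card_eq] at hdvd
      rcases E.rp.dvd_mul.1 hdvd with h | h
      · have h1 : r ∣ r ^ i - 1 := h.trans (hn ▸ E.setup.index_dvd_pred)
        have h2 : r ∣ r ^ i := dvd_pow_self r (by omega)
        have h3 : 0 < r ^ i := pow_pos E.rp.pos i
        have h4 := Nat.dvd_sub h2 h1
        rw [show r ^ i - (r ^ i - 1) = 1 by omega] at h4
        exact E.rp.one_lt.ne' (Nat.dvd_one.1 h4)
      · exact E.cop (h.trans (Subgroup.card_dvd_of_le (inf_le_inf_right D inf_le_right)))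
    faith := fun h hh hall => E.setup.faith h fun y => by
      obtain ⟨x, hx, rfl⟩ := E.reach y
      exact (E.commute_iff hh hx).1 (hall x hx)
    fpf := fun h hh hD x hx hc => E.free x hx
      (E.setup.uniq h hD (x • a) a ((E.commute_iff hh hx).1 hc) hh.2)
    covers := E.covers
    irred := hirred
    bad := by rw [E.card_eq]; exact E.bad }

/-- `H` is semiregular on the nonidentity elements of `R`. -/
theorem Reg.semiregular {h : G} (hh : h ∈ Subgroup.normalizer (R : Set G) ⊓ stabilizer G a)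
    (h1 : h ≠ 1) {x : G} (hx : x ∈ R) (hc : Commute h x) : x = 1 := by
  by_cases hD : h ∈ D
  · exact E.lin.semiregular h ⟨hh, hD⟩ h1 x hx hc
  · exact E.lin.fpf h hh hD x hx hc

theorem Reg.card_dvd :
    Nat.card (Subgroup.normalizer (R : Set G) ⊓ stabilizer G a : Subgroup G) ∣ Nat.card Ω - 1 := by
  set H := Subgroup.normalizer (R : Set G) ⊓ stabilizer G a
  have h := H25.Derange.index_dvd_ncard (⊥ : Subgroup H) ({a}ᶜ : Set Ω)
    (fun m x hx h' => hx (by
      have hma : (m : G) • a = a := m.2.2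
      have h2 : (m : G) • x = (m : G) • a := (show (m : G) • x = a from h').trans hma.symm
      exact smul_left_cancel (m : G) h2))
    (fun y hy m hm => by
      rw [Subgroup.mem_bot]
      obtain ⟨x, hx, rfl⟩ := E.reach y
      by_contra hm1
      exact hy (by
        have hcm : Commute (m : G) x := (E.commute_iff m.2 hx).2 hm
        rw [E.semiregular m.2 (fun h' => hm1 (Subtype.ext h')) hx hcm, one_smul]
        rfl))
  rwa [Subgroup.index_bot, Set.ncard_compl, Set.ncard_singleton] at h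

/-- A subgroup over `R` in which `R` is central in its normaliser equals `R`. -/
theorem Reg.eq_of_normalizer_le {L : Subgroup G} (hLD : L ≤ D) (hRL : R ≤ L)
    (hN : ∀ g ∈ L, g ∈ Subgroup.normalizer (R : Set G) → ∀ x ∈ R, Commute g x) : L = R := by
  classical
  have := Fact.mk E.rp
  have hp : IsPGroup r (R.subgroupOf L) :=
    E.isPGroup.comap_of_injective L.subtype L.subtype_injective
  have hidx : ¬ r ∣ (R.subgroupOf L).index := by
    intro h
    have h1 := (R.subgroupOf L).card_mul_index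
    rw [Nat.card_congr (Subgroup.subgroupOfEquivOfLe hRL).toEquiv] at h1
    have h2 : Nat.card L ∣ Nat.card R * Nat.card (stabilizer G a ⊓ D : Subgroup G) := by
      rw [E.card_eq, ← E.setup.card_D a]
      exact Subgroup.card_dvd_of_le hLD
    rw [← h1] at h2
    exact E.cop (h.trans (Nat.dvd_of_mul_dvd_mul_left Nat.card_pos h2))
  set P : Sylow r L := hp.toSylow hidx
  have hP : (P : Subgroup L) = R.subgroupOf L := rfl
  have hPc : Subgroup.normalizer ((P : Subgroup L) : Set L) ≤
      Subgroup.centralizer ((P : Subgroup L) : Set L) := by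
    intro g hg
    rw [Subgroup.mem_centralizer_iff]
    intro y hy
    refine Subtype.ext ?_
    have hgR : (g : G) ∈ Subgroup.normalizer (R : Set G) := by
      rw [Subgroup.mem_normalizer_iff] at hg ⊢
      intro z
      constructor
      · exact fun hz => (hg ⟨z, hRL hz⟩).1 hz
      · intro hz
        have hzL : z ∈ L := by
          have h3 := mul_mem (mul_mem (inv_mem g.2) (hRL hz)) g.2
          simpa [mul_assoc] using h3
        exact (hg ⟨z, hzL⟩).2 hz
    exact (hN g g.2 hgR y hy).eq.symm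
  set K := (MonoidHom.transferSylow P hPc).ker
  have hK : Subgroup.IsComplement' K (P : Subgroup L) :=
    MonoidHom.ker_transferSylow_isComplement' P hPc
  have hKr : ¬ r ∣ Nat.card K := MonoidHom.not_dvd_card_ker_transferSylow P hPc
  -- the stabiliser lies in the kernel
  have hstab : stabilizer L a ≤ K := by
    intro g hg
    have h1 : ((g : L) : G) ∈ stabilizer G a ⊓ D := ⟨hg, hLD g.2⟩
    have hco : Nat.Coprime (orderOf g) r := by
      rw [← Subgroup.orderOf_coe g, Nat.coprime_comm, E.rp.coprime_iff_not_dvd]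
      exact fun h => E.cop (h.trans (Subgroup.orderOf_dvd_natCard _ h1))
    refine MonoidHom.mem_ker.2 ?_
    obtain ⟨k, hk⟩ := IsPGroup.iff_card.1 P.2
    refine orderOf_eq_one_iff.1 (Nat.eq_one_of_dvd_coprimes (hco.pow_right k)
      (orderOf_map_dvd _ g) ?_)
    rw [← hk]
    exact orderOf_dvd_natCard _
  have hKeq : stabilizer L a = K := by
    refine Subgroup.eq_of_le_of_card_ge hstab ?_
    have h2 := hK.card_mul
    rw [hP, Nat.card_congr (Subgroup.subgroupOfEquivOfLe hRL).toEquiv] at h2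
    have htr : IsPretransitive L Ω := ⟨fun y z => by
      obtain ⟨x, hx, rfl⟩ := E.reach y
      obtain ⟨x', hx', rfl⟩ := E.reach z
      exact ⟨⟨x' * x⁻¹, mul_mem (hRL hx') (inv_mem (hRL hx))⟩, by
        show (x' * x⁻¹) • x • a = x' • a
        rw [← mul_smul, inv_mul_cancel_right]⟩⟩
    have h3 := (stabilizer L a).card_mul_index
    rw [MulAction.index_stabilizer_of_transitive L a, ← h2, ← E.card_eq] at h3
    exact (Nat.eq_of_mul_eq_mul_right Nat.card_pos h3).ge
  have hKbot : K = ⊥ := by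
    rw [Subgroup.eq_bot_iff_forall]
    intro g hg
    refine Subtype.ext (E.setup.faith g fun y => ?_)
    obtain ⟨x, hx, rfl⟩ := E.reach y
    have hn : K.Normal := inferInstance
    have h4 := hn.conj_mem g hg (⟨x, hRL hx⟩ : L)⁻¹
    rw [← hKeq, mem_stabilizer_iff] at h4
    have h5 : (x⁻¹ * (g : G) * x) • a = a := by simpa [Subgroup.smul_def] using h4
    rw [mul_smul, mul_smul, inv_smul_eq_iff] at h5
    exact h5
  refine le_antisymm (fun g hg => ?_) hRL
  have h6 : (⟨g, hg⟩ : L) ∈ (P : Subgroup L) := by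
    rw [show (P : Subgroup L) = ⊤ from Subgroup.isComplement'_bot_left.1 (hKbot ▸ hK)]
    trivial
  exact h6

/-- `R` is self-centralising inside any subgroup of `D`. -/
theorem Reg.centralizer_inf {x : G} (hx : x ∈ R) (hx1 : x ≠ 1) :
    D ⊓ Subgroup.centralizer {x} = R := by
  have hc := E.lin.comm
  refine E.eq_of_normalizer_le inf_le_left (le_inf E.leD fun y hy => ?_) fun g hg hgR y hy => ?_
  · exact Subgroup.mem_centralizer_singleton_iff.2
      (congrArg Subtype.val (hc.is_comm.comm (⟨y, hy⟩ : R) ⟨x, hx⟩))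
  · obtain ⟨z, hz, hza⟩ := E.reach (g • a)
    have hh : z⁻¹ * g ∈ Subgroup.normalizer (R : Set G) ⊓ stabilizer G a :=
      Subgroup.mem_inf.2 ⟨mul_mem (inv_mem (Subgroup.le_normalizer hz)) hgR, by
        rw [mem_stabilizer_iff, mul_smul, ← hza, inv_smul_smul]⟩
    have hzx : Commute z x := congrArg Subtype.val (hc.is_comm.comm (⟨z, hz⟩ : R) ⟨x, hx⟩)
    have hgx : Commute g x := Subgroup.mem_centralizer_singleton_iff.1 hg.2
    have h1 : z⁻¹ * g = 1 := by
      by_contra h1
      exact hx1 (E.semiregular hh h1 hx (hzx.inv_left.mul_left hgx))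
    rw [← inv_mul_eq_one.1 h1]
    exact congrArg Subtype.val (hc.is_comm.comm (⟨z, hz⟩ : R) ⟨y, hy⟩)

end H25.Derange
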