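import Cfsg.Agent.H25.Derange.Linear

/-!
# The covering group acts semiregularly
-/

set_option autoImplicit false

namespace H25.Derange

variable {G : Type*} [Group G] [Finite G] {R H D : Subgroup G} {r : ℕ} (L : Lin R H D r)
include L

omit L [Finite G] in
theorem conj_orbit_mem {M : Subgroup G} {v : G} {Y : Set G}
    (hY : ∀ m ∈ M, ∀ e ∈ Y, m * e * m⁻¹ ∈ Y) {w : G} (hw : w ∈ orb M v) :
    {e ∈ Y | Commute e w}.ncard = {e ∈ Y | Commute e v}.ncard := by
  obtain ⟨m, hm, rfl⟩ := hw
  refine Eq.symm (Set.BijOn.ncard_eq (f := fun e => m * e * m⁻¹) ⟨?_, ?_, ?_⟩)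
  · rintro e ⟨he, hc⟩
    exact ⟨hY m hm e he, (Commute.conj_iff m).2 hc⟩
  · exact fun a _ b _ h => mul_left_cancel (mul_right_cancel h)
  · rintro e ⟨he, hc⟩
    refine ⟨m⁻¹ * e * m, ⟨by simpa using hY m⁻¹ (inv_mem hm) e he, ?_⟩, by group⟩
    have h2 : Commute (m * (m⁻¹ * e * m) * m⁻¹) (m * v * m⁻¹) := by
      have h3 : m * (m⁻¹ * e * m) * m⁻¹ = e := by group
      rw [h3]
      exact hc
    exact (Commute.conj_iff m).1 h2

/-- double counting along one orbit -/
theorem Lin.count {M U : Subgroup G} (hM : M ≤ H) (hcov : Covers D M) (hU : U ≤ M ⊓ D)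
    (Y : Set G) (hY : ∀ m ∈ M, ∀ e ∈ Y, m * e * m⁻¹ ∈ Y) (m0 : ℕ)
    (hm0 : ∀ e ∈ Y, Nat.card (fixSub R (Subgroup.zpowers e)) ≤ m0) {v : G} (hv : v ∈ R)
    (hv1 : v ≠ 1) :
    D.index * Nat.card U * {e ∈ Y | Commute e v}.ncard ≤
      Y.ncard * (m0 - 1) * Nat.card (U ⊓ Subgroup.centralizer {v} : Subgroup G) := by
  classical
  have := Fintype.ofFinite G
  let Of : Finset G := (orb M v).toFinset
  let Yf : Finset G := Y.toFinset
  have hOR : ∀ w ∈ orb M v, w ∈ R ∧ w ≠ 1 := by
    rintro _ ⟨m, hm, rfl⟩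
    refine ⟨(Subgroup.mem_normalizer_iff.1 (L.norm (hM hm)) v).1 hv, fun h => hv1 ?_⟩
    simpa using h
  have hdc : ∑ w ∈ Of, (Yf.filter fun e => Commute e w).card =
      ∑ e ∈ Yf, (Of.filter fun w => Commute e w).card := by
    simp only [Finset.card_filter]
    exact Finset.sum_comm
  have hl : ∀ w ∈ Of, (Yf.filter fun e => Commute e w).card = {e ∈ Y | Commute e v}.ncard := by
    intro w hw
    rw [← conj_orbit_mem hY (Set.mem_toFinset.1 hw), Set.ncard_eq_toFinset_card']
    congr 1
    ext e
    simp [Yf]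
  have hr : ∀ e ∈ Yf, (Of.filter fun w => Commute e w).card ≤ m0 - 1 := by
    intro e he
    have hsub : (Of.filter fun w => Commute e w : Set G) ⊆
        (fixSub R (Subgroup.zpowers e) : Set G) \ {1} := by
      intro w hw
      simp only [Finset.coe_filter, Set.mem_setOf_eq, Of, Set.mem_toFinset] at hw
      exact ⟨mem_fixSub_zpowers.2 ⟨(hOR w hw.1).1, hw.2⟩, (hOR w hw.1).2⟩
    have h1 := Set.ncard_le_ncard hsub (Set.toFinite _)
    rw [Set.ncard_coe_finset, Set.ncard_sdiff_singleton_of_mem (one_mem _),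
      ← Nat.card_coe_set_eq] at h1
    have h2 := hm0 e (Set.mem_toFinset.1 he)
    exact h1.trans (Nat.sub_le_sub_right h2 1)
  rw [Finset.sum_congr rfl hl, Finset.sum_const, smul_eq_mul] at hdc
  have hle := (hdc.le.trans (Finset.sum_le_card_nsmul _ _ _ hr))
  rw [smul_eq_mul] at hle
  have hO := L.orbit_ge hM hcov hU hv hv1
  rw [show (orb M v).ncard = Of.card from Set.ncard_eq_toFinset_card' _] at hO
  rw [show Yf.card = Y.ncard from (Set.ncard_eq_toFinset_card' _).symm] at hle
  calc D.index * Nat.card U * {e ∈ Y | Commute e v}.ncard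
      ≤ Of.card * Nat.card (U ⊓ Subgroup.centralizer {v} : Subgroup G)
        * {e ∈ Y | Commute e v}.ncard := Nat.mul_le_mul_right _ hO
    _ = (Of.card * {e ∈ Y | Commute e v}.ncard)
        * Nat.card (U ⊓ Subgroup.centralizer {v} : Subgroup G) := by ring
    _ ≤ _ := Nat.mul_le_mul_right _ hle

/-- Elements of order `q` conjugate to all their multiples by a fixed-point-free central `z`. -/
theorem Lin.fix_bound {q : ℕ} [hq : Fact q.Prime] {e z g : G} (he : e ∈ H) (hz : z ∈ H)
    (hg : g ∈ H) (heq : e ^ q = 1) (he1 : e ∉ Subgroup.zpowers z) (hzq : orderOf z = q)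
    (hez : Commute e z) (hgz : Commute g z) (hconj : g * e * g⁻¹ = e * z)
    (hzfix : ∀ x ∈ R, Commute z x → x = 1) :
    fixSub R (Subgroup.zpowers e) ≠ ⊥ ∧
      Nat.card (fixSub R (Subgroup.zpowers e)) ^ q ≤ Nat.card R := by
  classical
  have hqp : q.Prime := hq.out
  have hpow : ∀ k : ℕ, g ^ k * e * (g ^ k)⁻¹ = e * z ^ k := by
    intro k
    induction k with
    | zero => simp
    | succ k ih =>
      calc g ^ (k + 1) * e * (g ^ (k + 1))⁻¹ = g * (g ^ k * e * (g ^ k)⁻¹) * g⁻¹ := by
            rw [pow_succ']; group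
        _ = g * e * g⁻¹ * (g * z ^ k * g⁻¹) := by rw [ih]; group
        _ = e * z * z ^ k := by rw [hconj, (hgz.pow_right k).eq, mul_inv_cancel_right]
        _ = e * z ^ (k + 1) := by rw [pow_succ', mul_assoc]
  have hcard : ∀ k : ℕ, Nat.card (fixSub R (Subgroup.zpowers (e * z ^ k))) =
      Nat.card (fixSub R (Subgroup.zpowers e)) := by
    intro k
    rw [← hpow k, ← MulAut.conj_apply, ← MulEquiv.coe_toMonoidHom, ← MonoidHom.map_zpowers,
      ← map_fixSub (pow_mem (L.norm hg) k)]
    exact Nat.card_congr ((fixSub R _).equivMapOfInjective _ (MulEquiv.injective _)).symm.toEquiv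
  -- the group generated by `e` and `z`
  set A : Subgroup G := Subgroup.zpowers e ⊔ Subgroup.zpowers z
  have hAH : A ≤ H := sup_le (Subgroup.zpowers_le.2 he) (Subgroup.zpowers_le.2 hz)
  have hcl : A = Subgroup.closure {e, z} := by
    rw [Set.insert_eq, Subgroup.closure_union, ← Subgroup.zpowers_eq_closure,
      ← Subgroup.zpowers_eq_closure]
  have hAc : IsMulCommutative A := by
    rw [hcl]
    refine Subgroup.isMulCommutative_closure fun x hx y hy => ?_
    rcases hx with rfl | rfl <;> rcases hy with rfl | rfl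
    · rfl
    · exact hez.eq
    · exact hez.eq.symm
    · rfl
  have hmemA : ∀ a ∈ A, ∃ i j : ℕ, i < q ∧ a = e ^ i * z ^ j := by
    intro a ha
    have hle : Subgroup.zpowers e ≤ Subgroup.normalizer (Subgroup.zpowers z : Set G) := by
      rw [Subgroup.zpowers_le, Subgroup.mem_normalizer_iff]
      intro y
      constructor
      · intro hy
        obtain ⟨k, rfl⟩ := Subgroup.mem_zpowers_iff.1 hy
        rw [(hez.zpow_right k).eq, mul_inv_cancel_right]
        exact hy
      · intro hy
        obtain ⟨k, hk⟩ := Subgroup.mem_zpowers_iff.1 hy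
        refine Subgroup.mem_zpowers_iff.2 ⟨k, ?_⟩
        calc z ^ k = e⁻¹ * z ^ k * e := by
              rw [(hez.zpow_right k).inv_left.eq, inv_mul_cancel_right]
          _ = _ := by rw [hk]; group
    rw [show A = Subgroup.zpowers e ⊔ Subgroup.zpowers z from rfl, ← SetLike.mem_coe,
      Subgroup.coe_mul_of_left_le_normalizer_right _ _ hle] at ha
    obtain ⟨x, hx, y, hy, rfl⟩ := Set.mem_mul.1 ha
    have hef : IsOfFinOrder e := isOfFinOrder_of_finite e
    have hzf : IsOfFinOrder z := isOfFinOrder_of_finite z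
    obtain ⟨i, rfl⟩ := hef.mem_powers_iff_mem_zpowers.2 hx
    obtain ⟨j, rfl⟩ := hzf.mem_powers_iff_mem_zpowers.2 hy
    refine ⟨i % q, j, Nat.mod_lt _ hqp.pos, ?_⟩
    show e ^ i * z ^ j = _
    rw [pow_eq_pow_mod i heq]
  have hAnc : ¬ IsCyclic A := by
    intro hc
    have heA : e ∈ A := Subgroup.mem_sup_left (Subgroup.mem_zpowers e)
    have hzA : z ∈ A := Subgroup.mem_sup_right (Subgroup.mem_zpowers z)
    -- a cyclic group has at most `q` solutions of `x ^ q = 1`
    classical
    have := Fintype.ofFinite A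
    have hle := IsCyclic.card_pow_eq_one_le (α := A) hqp.pos
    set T : Finset A := {x : A | x ^ q = 1}
    let Z : Subgroup A := Subgroup.zpowers (⟨z, hzA⟩ : A)
    have hZcard : Nat.card Z = q := by rw [Nat.card_zpowers, Subgroup.orderOf_mk, hzq]
    have hsub : insert (⟨e, heA⟩ : A) (Z : Set A) ⊆ (T : Set A) := by
      rintro x (rfl | hx)
      · simp [T, Subtype.ext_iff, heq]
      · have : (⟨x, hx⟩ : Z) ^ q = 1 := by rw [← hZcard]; exact pow_card_eq_one'
        simpa [T] using congrArg Subtype.val this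
    have hne : (⟨e, heA⟩ : A) ∉ (Z : Set A) := fun h => by
      obtain ⟨k, hk⟩ := Subgroup.mem_zpowers_iff.1 h
      exact he1 (Subgroup.mem_zpowers_iff.2 ⟨k, by simpa using congrArg Subtype.val hk⟩)
    have h1 := Set.ncard_le_ncard hsub T.finite_toSet
    rw [Set.ncard_insert_of_notMem hne (Set.toFinite _), Set.ncard_coe_finset,
      ← Nat.card_coe_set_eq, SetLike.coe_sort_coe, hZcard] at h1
    omega
  refine ⟨?_, ?_⟩
  · obtain ⟨a, haA, ha1, hafix⟩ := L.exists_fixed hAH hAc hAnc
    obtain ⟨i, j, hiq, rfl⟩ := hmemA a haA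
    obtain ⟨x, hx, hx1⟩ := (Subgroup.bot_or_exists_ne_one _).resolve_left hafix
    obtain ⟨hxR, hcx⟩ := mem_fixSub_zpowers.1 hx
    by_cases hi : i = 0
    · subst hi
      simp only [pow_zero, one_mul] at ha1 hcx
      have hj : ¬ q ∣ j := fun h => ha1 (orderOf_dvd_iff_pow_eq_one.1 (hzq ▸ h))
      have hgen : z ∈ Subgroup.zpowers (z ^ j) := by
        refine mem_zpowers_pow_iff.2 ?_
        rw [hzq]
        exact ((hqp.coprime_iff_not_dvd).2 hj).symm
      obtain ⟨k, hk⟩ := Subgroup.mem_zpowers_iff.1 hgen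
      have hh := hcx.zpow_left k
      rw [hk] at hh
      exact (hx1 (hzfix x hxR hh)).elim
    · obtain ⟨c, -, hc⟩ := Nat.exists_mul_mod_eq_one_of_coprime
        (Nat.coprime_comm.1 (hqp.coprime_iff_not_dvd.2 fun h => by
          have := Nat.le_of_dvd (Nat.pos_of_ne_zero hi) h; omega)) hqp.one_lt
      have hec : (e ^ i * z ^ j) ^ c = e * z ^ (j * c) := by
        rw [(hez.pow_pow i j).mul_pow, ← pow_mul, ← pow_mul, pow_eq_pow_mod (i * c) heq, hc,
          pow_one]
      intro hbot
      have h2 : x ∈ fixSub R (Subgroup.zpowers (e * z ^ (j * c))) :=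
        mem_fixSub_zpowers.2 ⟨hxR, hec ▸ hcx.pow_left c⟩
      have h3 := hcard (j * c)
      rw [hbot, Subgroup.card_bot] at h3
      rw [Subgroup.eq_bot_of_card_eq _ h3, Subgroup.mem_bot] at h2
      exact hx1 h2
  · have hind := L.indep (fun k : Fin q => Subgroup.zpowers (e * z ^ (k : ℕ)))
      (fun k => Subgroup.zpowers_le.2 (mul_mem he (pow_mem hz _)))
      (fun i j b hb c hc => by
        have hmem : ∀ k : ℕ, Subgroup.zpowers (e * z ^ k) ≤ A := fun k => Subgroup.zpowers_le.2
          (mul_mem (Subgroup.mem_sup_left (Subgroup.mem_zpowers e))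
            (pow_mem (Subgroup.mem_sup_right (Subgroup.mem_zpowers z)) _))
        have := hAc.is_comm.comm ⟨b, hmem _ hb⟩ ⟨c, hmem _ hc⟩
        exact congrArg Subtype.val this)
      (fun i j hij => by
        rw [Subgroup.eq_bot_iff_forall]
        rintro x ⟨hxi, hxj⟩
        obtain ⟨hxR, hci⟩ := mem_fixSub_zpowers.1 hxi
        obtain ⟨-, hcj⟩ := mem_fixSub_zpowers.1 hxj
        apply hzfix x hxR
        have key : ∀ a b : Fin q, a < b → Commute (e * z ^ (a : ℕ)) x →
            Commute (e * z ^ (b : ℕ)) x → Commute z x := by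
          intro a b hab ha hb
          have hd : Commute (z ^ ((b : ℕ) - a)) x := by
            have h1 := ha.inv_left.mul_left hb
            have h2 : (e * z ^ (a : ℕ))⁻¹ * (e * z ^ (b : ℕ)) = z ^ ((b : ℕ) - a) := by
              rw [mul_inv_rev, mul_assoc, inv_mul_cancel_left, eq_comm, eq_inv_mul_iff_mul_eq,
                ← pow_add, Nat.add_sub_cancel' (le_of_lt hab)]
            rwa [h2] at h1
          have hgen : z ∈ Subgroup.zpowers (z ^ ((b : ℕ) - a)) := by
            refine mem_zpowers_pow_iff.2 ?_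
            rw [hzq]
            refine ((hqp.coprime_iff_not_dvd).2 fun h => ?_).symm
            have hab' : (a : ℕ) < b := hab
            have := Nat.le_of_dvd (by omega) h
            omega
          obtain ⟨k, hk⟩ := Subgroup.mem_zpowers_iff.1 hgen
          exact hk ▸ hd.zpow_left k
        rcases lt_or_gt_of_ne hij with h | h
        · exact key i j h hci hcj
        · exact key j i h hcj hci)
    simp only [hcard, Finset.prod_const, Finset.card_univ, Fintype.card_fin] at hind
    exact hind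

omit L in
/-- A group in which more than three quarters of the elements square to one has exponent two. -/
theorem sq_eq_one_of_many {K : Type*} [Group K] [Finite K]
    (h : 3 * Nat.card K < 4 * {x : K | x * x = 1}.ncard) : ∀ x : K, x * x = 1 := by
  classical
  set T : Set K := {x : K | x * x = 1}
  have hhalf : ∀ a ∈ T, ∀ b : K, Commute a b := by
    intro a ha
    have hsub : T ∩ (fun b => a * b) ⁻¹' T ⊆ (Subgroup.centralizer {a} : Set K) := by
      rintro b ⟨hb, hab⟩
      rw [SetLike.mem_coe, Subgroup.mem_centralizer_singleton_iff]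
      have hb' : b * b = 1 := hb
      have hab' : a * b * (a * b) = 1 := hab
      calc b * a = b⁻¹ * a⁻¹ := by
            rw [inv_eq_of_mul_eq_one_left hb', inv_eq_of_mul_eq_one_left (show a * a = 1 from ha)]
        _ = (a * b)⁻¹ := (mul_inv_rev a b).symm
        _ = a * b := inv_eq_of_mul_eq_one_left hab'
    have hpre : ((fun b => a * b) ⁻¹' T).ncard = T.ncard :=
      Set.ncard_preimage_of_injective_subset_range (mul_right_injective a)
        (fun x _ => ⟨a⁻¹ * x, by simp⟩)
    have h1 := Set.ncard_union_add_ncard_inter T ((fun b => a * b) ⁻¹' T)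
      (Set.toFinite _) (Set.toFinite _)
    have h2 : (T ∪ (fun b => a * b) ⁻¹' T).ncard ≤ Nat.card K := by
      rw [← Set.ncard_univ]
      exact Set.ncard_le_ncard (Set.subset_univ _) (Set.toFinite _)
    have h3 : (T ∩ (fun b => a * b) ⁻¹' T).ncard ≤ Nat.card (Subgroup.centralizer {a}) := by
      rw [← SetLike.coe_sort_coe, Nat.card_coe_set_eq]
      exact Set.ncard_le_ncard hsub (Set.toFinite _)
    have h4 : Subgroup.centralizer {a} = ⊤ := by
      obtain ⟨k, hk⟩ := Subgroup.card_subgroup_dvd_card (Subgroup.centralizer {a})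
      rcases k with _ | _ | k
      · have : 0 < Nat.card K := Nat.card_pos
        omega
      · exact Subgroup.eq_top_of_card_eq _ (by omega)
      · exfalso
        have : 2 * Nat.card (Subgroup.centralizer {a}) ≤ Nat.card K := by rw [hk]; nlinarith
        omega
    intro b
    have : b ∈ Subgroup.centralizer {a} := h4 ▸ Subgroup.mem_top b
    exact (Subgroup.mem_centralizer_singleton_iff.1 this).symm
  let S : Subgroup K :=
    { carrier := T
      one_mem' := one_mul 1
      inv_mem' := fun {x} (hx : x * x = 1) => show x⁻¹ * x⁻¹ = 1 by rw [← mul_inv_rev, hx, inv_one]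
      mul_mem' := fun {x y} hx hy => show x * y * (x * y) = 1 by
        rw [(hhalf x hx y).eq, mul_assoc, ← mul_assoc x, (hhalf x hx y).eq,
          show y * (y * x * x) = y * y * (x * x) by group, show x * x = 1 from hx,
          show y * y = 1 from hy, one_mul] }
  intro x
  obtain ⟨k, hk⟩ := Subgroup.card_subgroup_dvd_card S
  have hS : Nat.card S = T.ncard := Nat.card_coe_set_eq T
  rcases k with _ | _ | k
  · have : 0 < Nat.card K := Nat.card_pos
    omega
  · have : S = ⊤ := Subgroup.eq_top_of_card_eq _ (by omega)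
    exact (this.ge (Subgroup.mem_top x) : x ∈ S)
  · exfalso
    have : 2 * Nat.card S ≤ Nat.card K := by rw [hk]; nlinarith
    omega

end H25.Derange
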